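import Groth.Agent.DiagHomLib.Chart
import Groth.Agent.RedRankLib.Fam

/-!
Families of homomorphisms out of a diagonalisable group, in terms of characters.
-/

set_option autoImplicit false
set_option backward.isDefEq.respectTransparency false

noncomputable section

universe u

open CategoryTheory CategoryTheory.Limits MonoidalCategory CartesianMonoidalCategory AlgebraicGeometry
open scoped MonObj

namespace MultSubLib

open DiagHomLib (phiOf dsChart)

variable {S : Scheme.{u}} {M N L : Type} [AddCommGroup M] [AddCommGroup N] [AddCommGroup L]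

/-- The characters of a point of the diagonalisable group. -/
def chars {Y : Over S} (h : Y ⟶ Red.DS S M) : Multiplicative M →* Γ(Y.left, ⊤) :=
  (Equiv.ofBijective _ (DSPtsLib.dsPt_bijective (M := M) Y)).symm h

theorem dsPt_chars {Y : Over S} (h : Y ⟶ Red.DS S M) : DSPtsLib.dsPt (chars h) = h :=
  (Equiv.ofBijective _ (DSPtsLib.dsPt_bijective (M := M) Y)).apply_symm_apply h

theorem chars_dsPt {Y : Over S} (χ : Multiplicative M →* Γ(Y.left, ⊤)) :
    chars (DSPtsLib.dsPt (S := S) χ) = χ :=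
  (DSPtsLib.dsPt_bijective (M := M) Y).1 (dsPt_chars _)

theorem chars_injective {Y : Over S} {h h' : Y ⟶ Red.DS S M} (e : chars h = chars h') : h = h' := by
  rw [← dsPt_chars h, e, dsPt_chars]

theorem chars_comp {Y' Y : Over S} (g : Y' ⟶ Y) (h : Y ⟶ Red.DS S M) :
    chars (g ≫ h) = g.left.appTop.hom.toMonoidHom.comp (chars h) := by
  conv_lhs => rw [← dsPt_chars h, DSPtsLib.dsPt_natural, chars_dsPt]

theorem chars_mul {Y : Over S} (h h' : Y ⟶ Red.DS S M) : chars (h * h') = chars h * chars h' := by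
  conv_lhs => rw [← dsPt_chars h, ← dsPt_chars h', ← DSPtsLib.dsPt_mul, chars_dsPt]

theorem chars_one {Y : Over S} : chars (1 : Y ⟶ Red.DS S M) = 1 := by
  rw [← DSPtsLib.dsPt_one, chars_dsPt]

/-- The homomorphism dual to a map of characters. -/
def dd (S : Scheme.{u}) (ψ : Multiplicative N →* Multiplicative M) : Red.DS S M ⟶ Red.DS S N :=
  DSPtsLib.dsPt ((chars (𝟙 (Red.DS S M))).comp ψ)

theorem chars_comp_dd {Y : Over S} (h : Y ⟶ Red.DS S M) (ψ : Multiplicative N →* Multiplicative M) :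
    chars (h ≫ dd S ψ) = (chars h).comp ψ := by
  rw [chars_comp, dd, chars_dsPt, ← MonoidHom.comp_assoc, ← chars_comp, Category.comp_id]

theorem dd_comp_dd (ψ : Multiplicative N →* Multiplicative M) (ψ' : Multiplicative L →* Multiplicative N) :
    dd S ψ ≫ dd S ψ' = dd S (ψ.comp ψ') := by
  refine chars_injective ?_
  rw [chars_comp_dd, dd, chars_dsPt, dd, chars_dsPt, MonoidHom.comp_assoc]

theorem dd_id : dd S (MonoidHom.id (Multiplicative M)) = 𝟙 _ := by
  refine chars_injective ?_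
  rw [dd, chars_dsPt, MonoidHom.comp_id]

theorem mul_comp_dd {Y : Over S} (a b : Y ⟶ Red.DS S M) (ψ : Multiplicative N →* Multiplicative M) :
    (a * b) ≫ dd S ψ = (a ≫ dd S ψ) * (b ≫ dd S ψ) := by
  refine chars_injective ?_
  rw [chars_comp_dd, chars_mul, chars_mul, chars_comp_dd, chars_comp_dd, MonoidHom.mul_comp]

instance isMonHom_dd (ψ : Multiplicative N →* Multiplicative M) : IsMonHom (dd S ψ) :=
  Groth.Agent.RedRank.isMonHom_of_mul _ fun _ a b => mul_comp_dd a b ψ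

theorem phiOf_dsChart {T : Over S} (x : T ⟶ T) (ψ : Multiplicative N →* Multiplicative M) :
    phiOf (dsChart T M) (dsChart T N) x ψ = fst (Red.DS S M) T ≫ dd S ψ := by
  refine chars_injective ?_
  rw [chars_comp_dd, phiOf]
  exact chars_dsPt _

theorem exists_open_dd [AddGroup.FG N] {T : Over S} (φ : Red.DS S M ⊗ T ⟶ Red.DS S N)
    (hφ : AutFam.IsHomFamily (Red.DS S M) (Red.DS S N) φ) (z : T.left) :
    ∃ (U : Over S) (j : U ⟶ T), IsOpenImmersion j.left ∧ z ∈ Set.range j.left ∧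
      ∃ ψ : Multiplicative N →* Multiplicative M, (Red.DS S M ◁ j) ≫ φ = fst (Red.DS S M) U ≫ dd S ψ := by
  obtain ⟨U, j, hj, hz, ψ, hψ⟩ := DiagHomLib.exists_open_phiOf (dsChart T M) (dsChart T N) (𝟙 T) φ hφ z
  refine ⟨U, j, hj, hz, ψ, ?_⟩
  rw [hψ]
  refine chars_injective ?_
  rw [chars_comp_dd, phiOf]
  exact chars_dsPt _

theorem dd_injective {T : Over S} [Nonempty T.left] {ψ ψ' : Multiplicative N →* Multiplicative M}
    (h : fst (Red.DS S M) T ≫ dd S ψ = fst (Red.DS S M) T ≫ dd S ψ') : ψ = ψ' := by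
  refine DiagHomLib.phiOf_injective (dsChart T M) (dsChart T N) (𝟙 T) ?_
  rwa [phiOf_dsChart, phiOf_dsChart]

variable {G : Over S} [GrpObj G] {T : Over S}

/-- A family twisted by a map of characters. -/
def tw (ψ : Multiplicative N →* Multiplicative M) (φ : Red.DS S N ⊗ T ⟶ G) : Red.DS S M ⊗ T ⟶ G :=
  lift (fst (Red.DS S M) T ≫ dd S ψ) (snd (Red.DS S M) T) ≫ φ

theorem lift_tw (ψ : Multiplicative N →* Multiplicative M) (φ : Red.DS S N ⊗ T ⟶ G) {Y : Over S}
    (h : Y ⟶ Red.DS S M) (t : Y ⟶ T) : lift h t ≫ tw ψ φ = lift (h ≫ dd S ψ) t ≫ φ := by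
  rw [tw, comp_lift_assoc, lift_fst_assoc, lift_snd]

theorem tw_id (φ : Red.DS S M ⊗ T ⟶ G) : tw (MonoidHom.id _) φ = φ := by
  rw [tw, dd_id, Category.comp_id, lift_fst_snd, Category.id_comp]

theorem tw_tw (ψ : Multiplicative N →* Multiplicative M) (ψ' : Multiplicative L →* Multiplicative N)
    (φ : Red.DS S L ⊗ T ⟶ G) : tw ψ (tw ψ' φ) = tw (ψ.comp ψ') φ := by
  rw [tw, lift_tw, Category.assoc, dd_comp_dd]
  rfl

theorem isHomFamily_tw (ψ : Multiplicative N →* Multiplicative M) {φ : Red.DS S N ⊗ T ⟶ G}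
    (hφ : AutFam.IsHomFamily (Red.DS S N) G φ) : AutFam.IsHomFamily (Red.DS S M) G (tw ψ φ) := by
  intro Y g₁ g₂ t
  rw [lift_tw, lift_tw, lift_tw, mul_comp_dd, hφ]

theorem tw_natural (ψ : Multiplicative N →* Multiplicative M) (φ : Red.DS S N ⊗ T ⟶ G) {T' : Over S} (a : T' ⟶ T) :
    (Red.DS S M ◁ a) ≫ tw ψ φ = tw ψ ((Red.DS S N ◁ a) ≫ φ) := by
  rw [show (Red.DS S M ◁ a : Red.DS S M ⊗ T' ⟶ _) = lift (fst _ T') (snd _ T' ≫ a) by ext1 <;> simp,
    lift_tw, tw, lift_whiskerLeft_assoc]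

section Mono

variable {H : Over S} [GrpObj H]

/-- The family is injective on points. -/
def FamMono (φ : H ⊗ T ⟶ G) : Prop := ∀ (Y : Over S) (t : Y ⟶ T) (h : Y ⟶ H), lift h t ≫ φ = 1 → h = 1

theorem lift_inv {φ : H ⊗ T ⟶ G} (hφ : AutFam.IsHomFamily H G φ) {Y : Over S} (t : Y ⟶ T) (h : Y ⟶ H) :
    lift h⁻¹ t ≫ φ = (lift h t ≫ φ)⁻¹ := by
  have h1 : lift (1 : Y ⟶ H) t ≫ φ = 1 := by
    have e := hφ Y 1 1 t
    rw [_root_.one_mul] at e
    exact left_eq_mul.1 e
  rw [eq_inv_iff_mul_eq_one, ← hφ, inv_mul_cancel, h1]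

theorem FamMono.eq_of_eq {φ : H ⊗ T ⟶ G} (hm : FamMono φ) (hφ : AutFam.IsHomFamily H G φ) {Y : Over S}
    {t : Y ⟶ T} {h h' : Y ⟶ H} (e : lift h t ≫ φ = lift h' t ≫ φ) : h = h' := by
  refine mul_inv_eq_one.1 (hm Y t _ ?_)
  rw [hφ, lift_inv hφ, e, mul_inv_cancel]

theorem FamMono.comp {φ : H ⊗ T ⟶ G} (hm : FamMono φ) {T' : Over S} (a : T' ⟶ T) : FamMono ((H ◁ a) ≫ φ) := by
  intro Y t h e
  rw [lift_whiskerLeft_assoc] at e
  exact hm Y _ h e

theorem hom_ext_flat_cover {Y Z : Over S} {I : Type u} {Y' : I → Over S} (g : ∀ i, Y' i ⟶ Y)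
    (hflat : ∀ i, Flat (g i).left) (hsurj : ∀ y, ∃ i, y ∈ Set.range (g i).left) {a b : Y ⟶ Z}
    (h : ∀ i, g i ≫ a = g i ≫ b) : a = b := by
  let π : (∐ fun i => (Y' i).left) ⟶ Y.left := Sigma.desc fun i => (g i).left
  haveI : Flat π := IsZariskiLocalAtSource.sigmaDesc hflat
  haveI : Surjective π := ⟨fun y => by
    obtain ⟨i, w, hw⟩ := hsurj y
    refine ⟨Sigma.ι (fun i => (Y' i).left) i w, ?_⟩
    rw [← Scheme.Hom.comp_apply, Sigma.ι_desc]
    exact hw⟩
  haveI : Epi π := Flat.epi_of_flat_of_surjective π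
  refine Over.OverMorphism.ext ((cancel_epi π).1 (Sigma.hom_ext _ _ fun i => ?_))
  rw [Sigma.ι_desc_assoc, Sigma.ι_desc_assoc]
  exact congrArg CommaMorphism.left (h i)

theorem FamMono.of_cover {φ : H ⊗ T ⟶ G} {I : Type u} {T' : I → Over S} (a : ∀ i, T' i ⟶ T)
    (hflat : ∀ i, Flat (a i).left) (hsurj : ∀ x, ∃ i, x ∈ Set.range (a i).left)
    (hm : ∀ i, FamMono ((H ◁ a i) ≫ φ)) : FamMono φ := by
  intro Y t h e
  let Y' : I → Over S := fun i => Over.mk (pullback.fst t.left (a i).left ≫ Y.hom)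
  let g : ∀ i, Y' i ⟶ Y := fun i => Over.homMk (pullback.fst t.left (a i).left) rfl
  let t' : ∀ i, Y' i ⟶ T' i := fun i => Over.homMk (pullback.snd t.left (a i).left) (by
    show pullback.snd _ _ ≫ (T' i).hom = pullback.fst _ _ ≫ Y.hom
    rw [← Over.w (a i), ← pullback.condition_assoc, Over.w t])
  refine hom_ext_flat_cover g (fun i => ?_) (fun y => ?_) fun i => ?_
  · haveI := hflat i
    exact inferInstanceAs (Flat (pullback.fst t.left (a i).left))
  · obtain ⟨i, x, hx⟩ := hsurj (t.left y)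
    obtain ⟨w, hw, -⟩ := Scheme.Pullback.exists_preimage_pullback (f := t.left) (g := (a i).left) y x hx.symm
    exact ⟨i, w, hw⟩
  · rw [MonObj.comp_one]
    refine hm i (Y' i) (t' i) (g i ≫ h) ?_
    have ht : t' i ≫ a i = g i ≫ t := Over.OverMorphism.ext pullback.condition.symm
    rw [lift_whiskerLeft_assoc, ht, ← comp_lift_assoc, e, MonObj.comp_one]

end Mono

end MultSubLib
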