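import Groth.Agent.MultSubLib.Tri

/-!
Morphisms and subschemes given locally, and the subscheme of an injective homomorphism over the parameters.
-/

set_option autoImplicit false
set_option backward.isDefEq.respectTransparency false

noncomputable section

universe u

open CategoryTheory CategoryTheory.Limits MonoidalCategory CartesianMonoidalCategory AlgebraicGeometry
open scoped MonObj

namespace MultSubLib

variable {G₀ T : Scheme.{u}}

theorem comp_congr {C : Type*} [Category C] {Z W V V' U : C} (x : Z ⟶ W) {a : W ⟶ V} {b : V ⟶ U} {c : W ⟶ V'}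
    {d : V' ⟶ U} (h : a ≫ b = c ≫ d) : (x ≫ a) ≫ b = (x ≫ c) ≫ d := by
  rw [Category.assoc, Category.assoc, h]

namespace Tri

theorem exists_map_of_openCover {I : Type u} {U : I → Scheme.{u}} (g : ∀ i, U i ⟶ T) (hg : ∀ i, IsOpenImmersion (g i))
    (hcov : ∀ t, ∃ i, t ∈ Set.range (g i)) {A B : Tri G₀ T} (h : ∀ i, Same (A.pull (g i)) (B.pull (g i))) :
    ∃ a : A.K ⟶ B.K, a ≫ B.k = A.k ∧ a ≫ B.c = A.c := by
  choose e h1 h2 using h
  let 𝒰 : A.K.OpenCover := Scheme.Cover.mkOfCovers (P := @IsOpenImmersion) I (fun i => pullback A.k (g i))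
    (fun i => pullback.fst A.k (g i)) (fun x => by
      obtain ⟨i, y, hy⟩ := hcov (A.k x)
      obtain ⟨w, hw, -⟩ := Scheme.Pullback.exists_preimage_pullback (f := A.k) (g := g i) x y hy.symm
      exact ⟨i, w, hw⟩) (fun i => by haveI := hg i; infer_instance)
  let a : ∀ i, pullback A.k (g i) ⟶ B.K := fun i => (e i).hom ≫ pullback.fst B.k (g i)
  have hk : ∀ i, a i ≫ B.k = pullback.fst A.k (g i) ≫ A.k := fun i =>
    (Category.assoc _ _ _).trans ((congrArg ((e i).hom ≫ ·) pullback.condition).trans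
      ((Category.assoc _ _ _).symm.trans ((congrArg (· ≫ g i) (h1 i)).trans pullback.condition.symm)))
  have hc : ∀ i, a i ≫ B.c = pullback.fst A.k (g i) ≫ A.c := fun i => (Category.assoc _ _ _).trans (h2 i)
  have agree : ∀ i i', pullback.fst (pullback.fst A.k (g i)) (pullback.fst A.k (g i')) ≫ a i =
      pullback.snd (pullback.fst A.k (g i)) (pullback.fst A.k (g i')) ≫ a i' := fun i i' => by
    refine B.mono _ _ ?_ ?_
    · exact (comp_congr _ (hk i)).trans ((congrArg (· ≫ A.k) pullback.condition).trans (comp_congr _ (hk i')).symm)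
    · exact (comp_congr _ (hc i)).trans ((congrArg (· ≫ A.c) pullback.condition).trans (comp_congr _ (hc i')).symm)
  have hd : ∀ i, pullback.fst A.k (g i) ≫ 𝒰.glueMorphisms a agree = a i := fun i => 𝒰.ι_glueMorphisms a agree i
  exact ⟨𝒰.glueMorphisms a agree, 𝒰.hom_ext _ _ fun i =>
      (Category.assoc _ _ _).symm.trans ((congrArg (· ≫ B.k) (hd i)).trans (hk i)),
    𝒰.hom_ext _ _ fun i => (Category.assoc _ _ _).symm.trans ((congrArg (· ≫ B.c) (hd i)).trans (hc i))⟩

/-- Being the same is local for open coverings. -/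
theorem same_of_openCover {I : Type u} {U : I → Scheme.{u}} (g : ∀ i, U i ⟶ T) (hg : ∀ i, IsOpenImmersion (g i))
    (hcov : ∀ t, ∃ i, t ∈ Set.range (g i)) {A B : Tri G₀ T} (h : ∀ i, Same (A.pull (g i)) (B.pull (g i))) :
    Same A B := by
  obtain ⟨a, ha, ha'⟩ := exists_map_of_openCover g hg hcov h
  obtain ⟨b, hb, hb'⟩ := exists_map_of_openCover g hg hcov fun i => (h i).symm
  exact same_of_maps a ha ha' b hb hb'

/-- Being the same descends along covering families. -/
theorem same_of_family {I : Type u} {U : I → Scheme.{u}} (g : ∀ i, U i ⟶ T)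
    [DescLib.Fpqc (Limits.Sigma.desc g)] {A B : Tri G₀ T} (h : ∀ i, Same (A.pull (g i)) (B.pull (g i))) : Same A B := by
  refine same_of_cover (Limits.Sigma.desc g) ?_
  refine same_of_openCover (fun i => Limits.Sigma.ι U i) (fun i => inferInstance)
    (fun t => by obtain ⟨i, z, hz⟩ := DescLib.exists_sigma_mem t; exact ⟨i, z, hz⟩) fun i => ?_
  exact ((pull_pull _ _ A).trans (Same.pull_congr (Limits.Sigma.ι_desc g i) A)).trans
    ((h i).trans ((pull_pull _ _ B).trans (Same.pull_congr (Limits.Sigma.ι_desc g i) B)).symm)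

end Tri

variable {S : Scheme.{u}}

theorem hom_descend_family {T : Over S} {I : Type u} {U : I → Over S} (g : ∀ i, U i ⟶ T)
    [DescLib.Fpqc (Limits.Sigma.desc fun i => (g i).left)] {Y : Over S} (f : ∀ i, U i ⟶ Y)
    (h : ∀ (i i' : I) (W : Over S) (a : W ⟶ U i) (b : W ⟶ U i'), a ≫ g i = b ≫ g i' → a ≫ f i = b ≫ f i') :
    ∃ v : T ⟶ Y, ∀ i, g i ≫ v = f i := by
  let P : Over S := Over.mk (Limits.Sigma.desc fun i => (U i).hom)
  let q : P ⟶ T := Over.homMk (Limits.Sigma.desc fun i => (g i).left) (Limits.Sigma.hom_ext _ _ fun i => by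
    rw [Limits.Sigma.ι_desc_assoc, Over.w (g i)]
    exact (Limits.Sigma.ι_desc (fun i => (U i).hom) i).symm)
  let F : P ⟶ Y := Over.homMk (Limits.Sigma.desc fun i => (f i).left) (Limits.Sigma.hom_ext _ _ fun i => by
    rw [Limits.Sigma.ι_desc_assoc, Over.w (f i)]
    exact (Limits.Sigma.ι_desc (fun i => (U i).hom) i).symm)
  let jU : ∀ i, U i ⟶ P := fun i => Over.homMk (Limits.Sigma.ι (fun i => (U i).left) i) (Limits.Sigma.ι_desc (fun i => (U i).hom) i)
  have hq : ∀ i, jU i ≫ q = g i := fun i => Over.OverMorphism.ext (Limits.Sigma.ι_desc (fun i => (g i).left) i)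
  have hF : ∀ i, jU i ≫ F = f i := fun i => Over.OverMorphism.ext (Limits.Sigma.ι_desc (fun i => (f i).left) i)
  haveI : DescLib.Fpqc q.left := ‹DescLib.Fpqc (Limits.Sigma.desc fun i => (g i).left)›
  obtain ⟨v, hv, -⟩ := RepDescLib.hom_descend q F fun W a b e => by
    let O : I × I → W.left.Opens := fun p =>
      (a.left ⁻¹ᵁ (Limits.Sigma.ι (fun i => (U i).left) p.1).opensRange) ⊓
        (b.left ⁻¹ᵁ (Limits.Sigma.ι (fun i => (U i).left) p.2).opensRange)
    let W' : I × I → Over S := fun p => Over.mk ((O p).ι ≫ W.hom)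
    let r : ∀ p, W' p ⟶ W := fun p => Over.homMk (O p).ι rfl
    refine hom_ext_flat_cover r (fun p => inferInstanceAs (Flat (O p).ι)) (fun w => ?_) fun p => ?_
    · obtain ⟨i, z, hz⟩ := DescLib.exists_sigma_mem (a.left w)
      obtain ⟨i', z', hz'⟩ := DescLib.exists_sigma_mem (b.left w)
      exact ⟨(i, i'), ⟨w, ⟨z, hz⟩, ⟨z', hz'⟩⟩, rfl⟩
    · have fact : ∀ (x : W ⟶ P) (i : I), (∀ w ∈ O p, x.left w ∈ (Limits.Sigma.ι (fun i => (U i).left) i).opensRange) →
          ∃ y : W' p ⟶ U i, y ≫ jU i = r p ≫ x := fun x i hx => by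
        have hr : Set.range ((O p).ι ≫ x.left) ⊆ Set.range (Limits.Sigma.ι (fun i => (U i).left) i) := by
          rintro _ ⟨w, rfl⟩
          exact hx w.1 w.2
        have hfac := IsOpenImmersion.lift_fac (Limits.Sigma.ι (fun i => (U i).left) i) ((O p).ι ≫ x.left) hr
        refine ⟨Over.homMk (IsOpenImmersion.lift _ _ hr) ?_, Over.OverMorphism.ext hfac⟩
        exact ((congrArg (IsOpenImmersion.lift _ _ hr ≫ ·) (Over.w (jU i))).symm.trans (Category.assoc _ _ _).symm).trans
          ((congrArg (· ≫ P.hom) hfac).trans ((Category.assoc _ _ _).trans (congrArg ((O p).ι ≫ ·) (Over.w x))))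
      obtain ⟨a', ha⟩ := fact a p.1 fun w hw => hw.1
      obtain ⟨b', hb⟩ := fact b p.2 fun w hw => hw.2
      rw [← Category.assoc, ← ha, ← Category.assoc, ← hb, Category.assoc, Category.assoc, hF, hF]
      refine h _ _ _ a' b' ?_
      rw [← hq, ← hq, ← Category.assoc, ha, ← Category.assoc, hb, Category.assoc, Category.assoc, e]
  exact ⟨v, fun i => by rw [← hq, Category.assoc, hv, hF]⟩

open Groth.Agent.RedRank (homOf)

theorem bcEquiv_left_fst {P : Scheme.{u}} (p : P ⟶ S) (X : Over S) {Z : Over P} (x : (Over.map p).obj Z ⟶ X) :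
    (Groth.Agent.HomRep.bcEquiv p X Z x).left ≫ pullback.fst X.hom p = x.left := by
  simp [Groth.Agent.HomRep.bcEquiv, Adjunction.homEquiv_unit, Over.mapPullbackAdj]

theorem bcEquiv_symm_left {P : Scheme.{u}} (p : P ⟶ S) (X : Over S) {Z : Over P} (x : Z ⟶ Red.bc p X) :
    ((Groth.Agent.HomRep.bcEquiv p X Z).symm x).left = x.left ≫ pullback.fst X.hom p := by
  conv_rhs => rw [← Equiv.apply_symm_apply (Groth.Agent.HomRep.bcEquiv p X Z) x, bcEquiv_left_fst]

theorem homOf_left_fst {H G : Over S} [GrpObj H] [GrpObj G] {T : Over S} (φ : H ⊗ T ⟶ G) :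
    (homOf φ).left ≫ pullback.fst G.hom T.hom = φ.left := by
  let m := lift ((Groth.Agent.HomRep.bcEquiv T.hom H _).symm (𝟙 (Red.bc T.hom H)))
    (Groth.Agent.RedRank.proj T (Red.bc T.hom H))
  have hm : m.left = 𝟙 (H ⊗ T).left := by
    refine pullback.hom_ext ?_ ?_
    · show (m ≫ fst H T).left = _
      rw [lift_fst, bcEquiv_symm_left]
      exact (congrArg (· ≫ pullback.fst H.hom T.hom) (Over.id_left (Red.bc T.hom H)))
    · show (m ≫ snd H T).left = _
      rw [lift_snd]
      exact (Category.id_comp _).symm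
  show (Groth.Agent.HomRep.bcEquiv T.hom G _ (m ≫ φ)).left ≫ _ = _
  rw [bcEquiv_left_fst, Over.comp_left, hm]
  exact Category.id_comp _

theorem bc2_ext {M Q : Scheme.{u}} (p : M ⟶ S) (ϖ : Q ⟶ M) (G : Over S) {Z : Over Q}
    {f f' : Z ⟶ Red.bc ϖ (Red.bc p G)}
    (h : f.left ≫ pullback.fst (Red.bc p G).hom ϖ ≫ pullback.fst G.hom p =
      f'.left ≫ pullback.fst (Red.bc p G).hom ϖ ≫ pullback.fst G.hom p) : f = f' := by
  have hs : f.left ≫ pullback.snd (Red.bc p G).hom ϖ = f'.left ≫ pullback.snd (Red.bc p G).hom ϖ :=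
    (Over.w f).trans (Over.w f').symm
  refine Over.OverMorphism.ext (pullback.hom_ext (pullback.hom_ext ?_ ?_) hs)
  · exact (Category.assoc _ _ _).trans (h.trans (Category.assoc _ _ _).symm)
  · refine (Category.assoc _ _ _).trans ?_
    refine (congrArg (f.left ≫ ·) pullback.condition).trans ?_
    refine (Category.assoc _ _ _).symm.trans ((congrArg (· ≫ ϖ) hs).trans ?_)
    refine (Category.assoc _ _ _).trans ?_
    exact (congrArg (f'.left ≫ ·) pullback.condition.symm).trans (Category.assoc _ _ _).symm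

theorem exists_compact_image {X Y : Scheme.{u}} (f : X ⟶ Y) (hf : IsOpenMap f.base)
    (hs : Function.Surjective f.base) (V : Y.Opens) (hV : IsAffineOpen V) :
    ∃ W : X.Opens, IsCompact (W : Set X) ∧ f.base '' (W : Set X) = (V : Set Y) := by
  choose U hU hxU hUle using fun x : {x : X // f.base x ∈ V} =>
    exists_isAffineOpen_mem_and_subset (X := X) (x := x.1) (U := f ⁻¹ᵁ V) x.2
  obtain ⟨t, ht⟩ := hV.isCompact.elim_finite_subcover (fun x => f.base '' (U x : Set X))
    (fun x => hf _ (U x).isOpen) (fun y hy => by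
      obtain ⟨x, rfl⟩ := hs y
      exact Set.mem_iUnion.mpr ⟨⟨x, hy⟩, x, hxU ⟨x, hy⟩, rfl⟩)
  refine ⟨⨆ x ∈ t, U x, ?_, ?_⟩
  · simp only [TopologicalSpace.Opens.coe_iSup]
    exact t.finite_toSet.isCompact_biUnion fun x _ => (hU x).isCompact
  · simp only [TopologicalSpace.Opens.coe_iSup, Set.image_iUnion]
    refine Set.Subset.antisymm (Set.iUnion₂_subset fun x _ => ?_) ht
    rintro _ ⟨z, hz, rfl⟩
    exact hUle x hz

theorem isClosed_opensRange_sigmaι {κ : Type u} (Z : κ → Scheme.{u}) (k : κ) :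
    IsClosed ((Limits.Sigma.ι Z k).opensRange : Set (∐ Z : Scheme.{u})) := by
  rw [← isOpen_compl_iff]
  refine isOpen_iff_forall_mem_open.2 fun x hx => ?_
  obtain ⟨i, z, rfl⟩ := DescLib.exists_sigma_mem x
  refine ⟨(Limits.Sigma.ι Z i).opensRange, fun y hy hy' => ?_, (Limits.Sigma.ι Z i).opensRange.2, z, rfl⟩
  obtain ⟨a, rfl⟩ := hy
  obtain ⟨b, hb⟩ := hy'
  exact hx (by
    obtain rfl : k = i := congrArg Sigma.fst ((sigmaι_eq_iff _ _ _ _ _).mp hb)
    exact ⟨z, rfl⟩)

end MultSubLib
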