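import Groth.Agent.RedCharZeroLib.TorusSplit
import Mathlib.RingTheory.Finiteness.Basic

/-!
Diagonalisable groups are of multiplicative type and, for a finite group of characters, finite.
-/

set_option autoImplicit false

noncomputable section

universe u

open CategoryTheory CategoryTheory.Limits MonoidalCategory CartesianMonoidalCategory AlgebraicGeometry
open scoped MonObj

namespace MultSubLib

theorem hcov_id (S : Scheme.{u}) :
    ∀ V : S.Opens, IsAffineOpen V → ∃ W : S.Opens, IsCompact (W : Set S) ∧ (𝟙 S : S ⟶ S).base '' (W : Set S) = (V : Set S) :=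
  fun V hV => ⟨V, hV.isCompact, Set.image_id _⟩

theorem isMultTypeFT_DS (S : Scheme.{u}) (M : Type) [AddCommGroup M] [AddGroup.FG M] :
    SGA3x.IsMultTypeFT (Red.DS S M) := by
  refine ⟨S, 𝟙 S, inferInstance, inferInstance, hcov_id S, fun s => ⟨⊤, trivial, M, inferInstance, inferInstance, ?_⟩⟩
  obtain ⟨e, he⟩ := RedCharZeroLib.exists_DS_bc ((⊤ : S.Opens).ι ≫ 𝟙 S) M
  haveI := he
  haveI : IsMonHom e.symm.hom := inferInstanceAs (IsMonHom e.inv)
  exact ⟨Grp.mkIso e.symm (IsMonHom.one_hom e.symm.hom) (IsMonHom.mul_hom e.symm.hom)⟩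

theorem isFinite_DS (S : Scheme.{u}) (M : Type) [AddCommGroup M] [Finite M] : IsFinite (Red.DS S M).hom := by
  haveI : IsFinite (Red.diag (ULift.{u} ℤ) M).hom := by
    refine (IsFinite.SpecMap_iff _).2 (RingHom.finite_algebraMap.2 ?_)
    exact Module.Finite.of_basis (MonoidAlgebra.basis (Multiplicative M) (ULift.{u} ℤ))
  exact inferInstanceAs (IsFinite (pullback.snd (Red.diag (ULift.{u} ℤ) M).hom _))

end MultSubLib
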