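import Groth.Agent.MonoLocusLib.Alg

/-!
Closed subgroups of a finite diagonalisable group: triviality spreads, and the kernel over a field is diagonalisable.
-/

set_option autoImplicit false

noncomputable section

universe u

open scoped TensorProduct

namespace MultSubLib

open Groth.Agent.MonoLocus

variable {R : Type u} [CommRing R] {M : Type} [AddCommGroup M]

/-- Triviality at a prime spreads to a basic open, with nilpotents. -/
theorem exists_trv_nbhd [Finite M] (I : Ideal (MonoidAlgebra R (Multiplicative M)))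
    (h1 : I ≤ RingHom.ker (ev (RingHom.id R) (1 : Multiplicative M →* R))) (q : Ideal R) [q.IsPrime]
    (hq : Trv I (algebraMap R q.ResidueField)) :
    ∃ g ∉ q, ∀ (T : Type u) [CommRing T] (ψ : R →+* T) (χ : Multiplicative M →* T),
      IsUnit (ψ g) → I ≤ RingHom.ker (ev ψ χ) → χ = 1 := by
  classical
  haveI := Fintype.ofFinite M
  haveI : Fintype (Multiplicative M) := inferInstanceAs (Fintype M)
  let A := MonoidAlgebra R (Multiplicative M)
  let Q := A ⧸ I
  let v : Multiplicative M → Q := fun m => Ideal.Quotient.mk I (MonoidAlgebra.single m 1 - 1)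
  let W : Submodule R Q := Submodule.span R (Set.range v)
  haveI : Module.Finite R W := Module.Finite.iff_fg.2 (Submodule.fg_span (Set.finite_range v))
  have hv : ∀ m, v m ∈ W := fun m => Submodule.subset_span ⟨m, rfl⟩
  have hstep : ∀ m, ∃ c, c ∉ q ∧ c • v m ∈ q • W := by
    intro m
    have hmem := mem_of_trv I (algebraMap R q.ResidueField) hq m
    obtain ⟨c, hc, f, hf, hfc⟩ := exists_mem_of_map I q hmem
    refine ⟨c, hc, ?_⟩
    have hε : ∑ j, f.coeff j = 0 := by
      have hz : ev (RingHom.id R) (1 : Multiplicative M →* R) f = 0 := h1 hf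
      rw [← MonoidAlgebra.sum_single f, Finsupp.sum_fintype _ _ (by simp), map_sum] at hz
      simpa [ev_single] using hz
    let t : Multiplicative M → R := fun j =>
      f.coeff j - c * ((if m = j then 1 else 0) - (if (1 : Multiplicative M) = j then 1 else 0))
    have ht : ∀ j, t j ∈ q := fun j => by
      rw [← Ideal.algebraMap_residueField_eq_zero, map_sub, sub_eq_zero, ← coeff_mp, hfc]
      simp [MonoidAlgebra.coeff_single, Finsupp.single_apply, Algebra.smul_def, apply_ite (algebraMap R q.ResidueField)]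
    have h0 : ∑ j, f.coeff j • v j = 0 := by
      have : ∑ j, f.coeff j • (MonoidAlgebra.single j (1 : R) - 1) = f := by
        simp only [smul_sub, Finset.sum_sub_distrib, ← Finset.sum_smul, hε, zero_smul, sub_zero]
        conv_rhs => rw [← MonoidAlgebra.sum_single f, Finsupp.sum_fintype _ _ (by simp)]
        exact Finset.sum_congr rfl fun j _ => by simp
      refine Eq.trans ?_ (Ideal.Quotient.eq_zero_iff_mem.2 hf)
      conv_rhs => rw [← this, map_sum]
      rfl
    have hone : v 1 = 0 := by
      show Ideal.Quotient.mk I _ = 0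
      rw [← MonoidAlgebra.one_def, sub_self, map_zero]
    have h2 : c • v m = - ∑ j, t j • v j := by
      simp only [t, sub_smul, mul_sub, Finset.sum_sub_distrib, h0, mul_ite, mul_one, mul_zero, ite_smul, zero_smul,
        Finset.sum_ite_eq, Finset.mem_univ, if_true, hone, smul_zero, sub_zero, zero_sub, neg_neg]
      exact (neg_neg _).symm
    rw [h2]
    exact Submodule.neg_mem _ (Submodule.sum_mem _ fun j _ => Submodule.smul_mem_smul (ht j) (hv j))
  choose c hc hcW using hstep
  let C := ∏ m, c m
  have hC : C ∉ q := fun h => by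
    obtain ⟨m, -, hm⟩ := Ideal.IsPrime.prod_mem_iff.1 h
    exact hc m hm
  have hCW : ∀ w ∈ W, C • w ∈ q • W := by
    intro w hw
    induction hw using Submodule.span_induction with
    | mem x hx =>
      obtain ⟨m, rfl⟩ := hx
      show (∏ j, c j) • v m ∈ _
      rw [← Finset.prod_erase_mul _ _ (Finset.mem_univ m), mul_smul]
      exact Submodule.smul_mem _ _ (hcW m)
    | zero => rw [smul_zero]; exact Submodule.zero_mem _
    | add x y _ _ hx hy => rw [smul_add]; exact Submodule.add_mem _ hx hy
    | smul r x _ hx => rw [smul_comm]; exact Submodule.smul_mem _ _ hx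
  let f : Module.End R W := C • LinearMap.id
  have hrange : LinearMap.range f ≤ q • ⊤ := by
    rintro _ ⟨w, rfl⟩
    have h := hCW w.1 w.2
    have hmap : Submodule.map W.subtype (q • (⊤ : Submodule R W)) = q • W := by
      rw [Submodule.map_smul'', Submodule.map_subtype_top]
    rw [← hmap, Submodule.mem_map] at h
    obtain ⟨w', hw', e⟩ := h
    have : w' = f w := Subtype.val_injective e
    rwa [← this]
  obtain ⟨p, hmon, -, hcoeff, haev⟩ := LinearMap.exists_monic_and_natDegree_eq_and_coeff_mem_pow_and_aeval_eq_zero R f q hrange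
  refine ⟨p.eval C, fun hmem => ?_, fun T _ ψ χ hu hI => ?_⟩
  · rw [Polynomial.eval_eq_sum_range, Finset.sum_range_succ, Polynomial.coeff_natDegree, hmon, one_mul] at hmem
    refine hC (‹q.IsPrime›.mem_of_pow_mem p.natDegree ((Ideal.add_mem_iff_right _ (Ideal.sum_mem _ fun k hk => ?_)).1 hmem))
    refine Ideal.mul_mem_right _ _ (Ideal.pow_le_self ?_ (hcoeff k))
    have := Finset.mem_range.1 hk
    omega
  · have hev : Polynomial.aeval f p = p.eval C • (LinearMap.id : Module.End R W) := by
      rw [show f = algebraMap R (Module.End R W) C from LinearMap.ext fun x => by simp [f, Algebra.algebraMap_eq_smul_one],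
        Polynomial.aeval_algebraMap_apply_eq_algebraMap_eval, Algebra.algebraMap_eq_smul_one]
      rfl
    refine MonoidHom.ext fun m => ?_
    have h := congrArg Subtype.val (LinearMap.congr_fun (hev ▸ haev : p.eval C • (LinearMap.id : Module.End R W) = 0)
      ⟨v m, hv m⟩)
    have h' : Ideal.Quotient.mk I (p.eval C • (MonoidAlgebra.single m 1 - 1)) = 0 := by
      refine Eq.trans ?_ h
      rfl
    have h'' : ev ψ χ (p.eval C • (MonoidAlgebra.single m 1 - 1)) = 0 := hI (Ideal.Quotient.eq_zero_iff_mem.1 h')
    rw [smul_sub, MonoidAlgebra.smul_single, smul_eq_mul, mul_one, MonoidAlgebra.one_def, MonoidAlgebra.smul_single,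
      smul_eq_mul, mul_one, map_sub, ev_single, ev_single, map_one, mul_one, sub_eq_zero] at h''
    exact hu.mul_left_cancel (h''.trans (mul_one _).symm)

/-- Over a field a closed subgroup is cut out by the characters trivial on it. -/
theorem exists_subgroup_killed {k : Type u} [Field k] (I : Ideal (MonoidAlgebra k (Multiplicative M))) (hI : MulClosed I)
    {T₀ : Type u} [CommRing T₀] (φ₀ : k →+* T₀) (χ₀ : Multiplicative M →* T₀) (hne : χ₀ ≠ 1)
    (hkill : I ≤ RingHom.ker (ev φ₀ χ₀)) :
    ∃ N₁ : AddSubgroup M, N₁ ≠ ⊤ ∧ ∀ (T : Type u) [CommRing T] (φ : k →+* T) (χ : Multiplicative M →* T),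
      (∀ m ∈ N₁, χ (Multiplicative.ofAdd m) = 1) → I ≤ RingHom.ker (ev φ χ) := by
  classical
  let e := uchr I (RingHom.id k)
  let N₁ : AddSubgroup M :=
    { carrier := {m | e (Multiplicative.ofAdd m) = 1}
      zero_mem' := map_one e
      add_mem' := fun {a b} ha hb => by
        show e (Multiplicative.ofAdd a * Multiplicative.ofAdd b) = 1
        rw [map_mul, show e _ = 1 from ha, show e _ = 1 from hb, one_mul]
      neg_mem' := fun {a} ha => by
        show e (Multiplicative.ofAdd a)⁻¹ = 1
        have := map_mul e (Multiplicative.ofAdd a) (Multiplicative.ofAdd a)⁻¹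
        rw [mul_inv_cancel, map_one, show e (Multiplicative.ofAdd a) = 1 from ha, one_mul] at this
        exact this.symm }
  have hmp : ∀ x : MonoidAlgebra k (Multiplicative M), mp (RingHom.id k) x = x := by
    intro x
    induction x using MonoidAlgebra.induction_linear with
    | zero => simp
    | add x y hx hy => simp [hx, hy]
    | single m r => simp [mp_single]
  refine ⟨N₁, fun htop => ?_, fun T _ φ χ hχ => ?_⟩
  · refine hne (MonoidHom.ext fun m => ?_)
    have hm : e m = 1 := (htop ▸ AddSubgroup.mem_top (Multiplicative.toAdd m) : Multiplicative.toAdd m ∈ N₁)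
    have h1 : MonoidAlgebra.single m (1 : k) - 1 ∈ I.map (mp (RingHom.id k)) := by
      rw [← Ideal.Quotient.eq_zero_iff_mem, map_sub, map_one, sub_eq_zero]
      exact hm
    have h2 : I.map (mp (RingHom.id k)) ≤ RingHom.ker (ev φ₀ χ₀) := Ideal.map_le_iff_le_comap.2 fun x hx => by
      rw [Ideal.mem_comap, hmp]
      exact hkill hx
    have h3 := h2 h1
    rw [RingHom.mem_ker, map_sub, map_one, ev_single, map_one, one_mul, sub_eq_zero] at h3
    exact h3
  intro x hx
  have hconst : ∀ m m', e m = e m' → χ m = χ m' := by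
    intro m m' h
    have hmem : (m * m'⁻¹).toAdd ∈ N₁ := by
      show e (m * m'⁻¹) = 1
      rw [map_mul, h, ← map_mul, mul_inv_cancel, map_one]
    have h1 : χ (m * m'⁻¹) = 1 := hχ _ hmem
    calc χ m = χ (m * m'⁻¹) * χ m' := by rw [← map_mul, inv_mul_cancel_right]
      _ = χ m' := by rw [h1, one_mul]
  have hnt : ∀ m, e m ≠ 0 := by
    intro m h0
    have h1 : (1 : MonoidAlgebra k (Multiplicative M) ⧸ I.map (mp (RingHom.id k))) = 0 := by
      rw [← map_one e, ← mul_inv_cancel m, map_mul, h0, zero_mul]
    haveI : Subsingleton (MonoidAlgebra k (Multiplicative M) ⧸ I.map (mp (RingHom.id k))) :=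
      subsingleton_of_zero_eq_one h1.symm
    refine hne (MonoidHom.ext fun m' => ?_)
    have h2 : I.map (mp (RingHom.id k)) ≤ RingHom.ker (ev φ₀ χ₀) := Ideal.map_le_iff_le_comap.2 fun x hx => by
      rw [Ideal.mem_comap, hmp]
      exact hkill hx
    have h3 := h2 (Ideal.Quotient.eq_zero_iff_mem.1 (Subsingleton.elim (Ideal.Quotient.mk _ 1) 0))
    rw [RingHom.mem_ker, map_one] at h3
    haveI : Subsingleton T₀ := subsingleton_of_zero_eq_one h3.symm
    exact Subsingleton.elim _ _
  obtain ⟨Δ, hΔ⟩ := exists_diag_uchr I hI (RingHom.id k)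
  let s := x.coeff.support
  let c : (MonoidAlgebra k (Multiplicative M) ⧸ I.map (mp (RingHom.id k))) → k :=
    fun b => ∑ m ∈ s.filter (fun m => e m = b), x.coeff m
  have hx' : ∑ m ∈ s, MonoidAlgebra.single m (x.coeff m) = x := MonoidAlgebra.sum_single x
  have hsingle : ∀ m r, Ideal.Quotient.mk (I.map (mp (RingHom.id k))) (MonoidAlgebra.single m r) = r • e m := by
    intro m r
    rw [show MonoidAlgebra.single m r = r • MonoidAlgebra.single m (1 : k) by simp]
    rfl
  have h0 : ∀ b ∈ s.image e, c b = 0 := by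
    refine linearIndepOn_sq Δ (s.image e) (fun b hb => ?_) (fun b hb => ?_) c ?_
    · obtain ⟨m, -, rfl⟩ := Finset.mem_image.1 hb
      exact hΔ m
    · obtain ⟨m, -, rfl⟩ := Finset.mem_image.1 hb
      exact hnt m
    · have h1 : Ideal.Quotient.mk (I.map (mp (RingHom.id k))) x = 0 :=
        Ideal.Quotient.eq_zero_iff_mem.2 (hmp x ▸ Ideal.mem_map_of_mem _ hx)
      rw [← hx', map_sum, ← Finset.sum_fiberwise_of_maps_to (fun m hm => Finset.mem_image_of_mem e hm)] at h1
      rw [← h1]
      refine Finset.sum_congr rfl fun b _ => ?_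
      rw [Finset.sum_smul]
      refine Finset.sum_congr rfl fun m hm => ?_
      rw [hsingle, (Finset.mem_filter.1 hm).2]
  rw [RingHom.mem_ker, ← hx', map_sum, ← Finset.sum_fiberwise_of_maps_to (fun m hm => Finset.mem_image_of_mem e hm)]
  refine Finset.sum_eq_zero fun b hb => ?_
  obtain ⟨m₀, hm₀, rfl⟩ := Finset.mem_image.1 hb
  have : ∀ m ∈ s.filter (fun m => e m = e m₀),
      ev φ χ (MonoidAlgebra.single m (x.coeff m)) = φ (x.coeff m) * χ m₀ := fun m hm => by
    rw [ev_single, hconst m m₀ (Finset.mem_filter.1 hm).2]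
  rw [Finset.sum_congr rfl this, ← Finset.sum_mul, ← map_sum]
  show φ (c (e m₀)) * χ m₀ = 0
  rw [h0 _ (Finset.mem_image_of_mem e hm₀), map_zero, zero_mul]

end MultSubLib
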