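import Groth.Agent.MultSubLib.Chars
import Groth.Agent.MultSubLib.KerAlg
import Groth.Agent.FinHomLib.HomGrp

/-!
The kernel of a family of homomorphisms out of a finite diagonalisable group over an affine parameter scheme.
-/

set_option autoImplicit false
set_option backward.isDefEq.respectTransparency false

noncomputable section

universe u

open CategoryTheory CategoryTheory.Limits MonoidalCategory CartesianMonoidalCategory AlgebraicGeometry
open scoped MonObj

namespace MultSubLib

open Groth.Agent.MonoLocus (ev MulClosed Trv)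
open DiagHomLib (tst tq gam exists_toTst)

variable {S : Scheme.{u}} {M : Type} [AddCommGroup M] {G : Over S} [GrpObj G] {T : Over S} [IsAffine T.left]

theorem ev_gam {A : Type u} [CommRing A] [Algebra Γ(T.left, ⊤) A] (χ : Multiplicative M →* A)
    (x : MonoidAlgebra Γ(T.left, ⊤) (Multiplicative M)) :
    ev (tq T A).left.appTop.hom ((gam (T := T) A).toMonoidHom.comp χ) x =
      gam (T := T) A (ev (algebraMap Γ(T.left, ⊤) A) χ x) := by
  let g : A →+* Γ((tst T A).left, ⊤) := (Scheme.ΓSpecIso (CommRingCat.of A)).inv.hom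
  have h1 : g.comp (algebraMap Γ(T.left, ⊤) A) = (tq T A).left.appTop.hom := by
    show _ = (Spec.map (CommRingCat.ofHom (algebraMap Γ(T.left, ⊤) A)) ≫ T.left.isoSpec.inv).appTop.hom
    have h : T.left.isoSpec.inv.appTop = (Scheme.ΓSpecIso Γ(T.left, ⊤)).inv := by
      rw [← cancel_mono T.left.isoSpec.hom.appTop, ← Scheme.Hom.comp_appTop, Iso.hom_inv_id, Scheme.isoSpec_hom,
        Scheme.toSpecΓ_appTop, Iso.inv_hom_id, Scheme.Hom.id_appTop]
    rw [Scheme.Hom.comp_appTop, h, ← Scheme.ΓSpecIso_inv_naturality]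
    rfl
  show _ = g (ev _ χ x)
  rw [← RingHom.comp_apply g, Groth.Agent.MonoLocus.ev_comp, h1]
  rfl

/-- The kernel is cut out by an ideal of the group algebra. -/
theorem exists_kernel_ideal [IsSeparated G.hom] (φ : Red.DS S M ⊗ T ⟶ G)
    (hφ : AutFam.IsHomFamily (Red.DS S M) G φ) :
    ∃ I : Ideal (MonoidAlgebra Γ(T.left, ⊤) (Multiplicative M)),
      (∀ (Y : Over S) (t : Y ⟶ T) (χ : Multiplicative M →* Γ(Y.left, ⊤)),
        lift (DSPtsLib.dsPt χ) t ≫ φ = 1 ↔ I ≤ RingHom.ker (ev t.left.appTop.hom χ)) ∧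
      MulClosed I ∧ I ≤ RingHom.ker (ev (RingHom.id _) (1 : Multiplicative M →* Γ(T.left, ⊤))) := by
  let R := Γ(T.left, ⊤)
  let A := MonoidAlgebra R (Multiplicative M)
  let χ₀ : Multiplicative M →* Γ((tst T A).left, ⊤) :=
    (gam (T := T) A).toMonoidHom.comp (MonoidAlgebra.of R (Multiplicative M))
  let u := lift (DSPtsLib.dsPt χ₀) (tq T A) ≫ φ
  obtain ⟨E, i, hi, -, hie, hE⟩ := Groth.Agent.FinHom.exists_equalizer u 1
  haveI := hi
  obtain ⟨I, e, he⟩ := IsClosedImmersion.Spec_iff.1 (show IsClosedImmersion (i.left : E.left ⟶ Spec (CommRingCat.of A)) from hi)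
  have hpts : ∀ (Y : Over S) (t : Y ⟶ T) (χ : Multiplicative M →* Γ(Y.left, ⊤)),
      lift (DSPtsLib.dsPt χ) t ≫ φ = 1 ↔ I ≤ RingHom.ker (ev t.left.appTop.hom χ) := by
    intro Y t χ
    let L : A →+* Γ(Y.left, ⊤) := ev t.left.appTop.hom χ
    obtain ⟨k, hk, hk'⟩ := exists_toTst t A L (by
      refine RingHom.ext fun r => ?_
      show L (MonoidAlgebra.single 1 r) = _
      refine (Groth.Agent.MonoLocus.ev_single _ _ _ _).trans ?_
      rw [map_one, _root_.mul_one])
    have hku : lift (DSPtsLib.dsPt χ) t ≫ φ = k ≫ u := by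
      rw [comp_lift_assoc, hk, DSPtsLib.dsPt_natural]
      congr 3
      refine MonoidHom.ext fun m => ?_
      refine Eq.trans ?_ (hk' _).symm
      refine ((Groth.Agent.MonoLocus.ev_single _ _ _ _).trans ?_).symm
      rw [map_one, _root_.one_mul]
    have hkt : k.left.appTop.hom.comp (Scheme.ΓSpecIso (CommRingCat.of A)).inv.hom = L := RingHom.ext hk'
    have hmk : ∀ a, (Spec.map (CommRingCat.ofHom (Ideal.Quotient.mk I))).appTop
        ((Scheme.ΓSpecIso (CommRingCat.of A)).inv a) =
        (Scheme.ΓSpecIso (CommRingCat.of (A ⧸ I))).inv (Ideal.Quotient.mk I a) := fun a =>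
      (RingHom.congr_fun (congrArg CommRingCat.Hom.hom
        (Scheme.ΓSpecIso_inv_naturality (CommRingCat.ofHom (Ideal.Quotient.mk I)))) a).symm
    rw [hku]
    constructor
    · intro h
      obtain ⟨w, hw, -⟩ := hE Y k (by rw [h, MonObj.comp_one])
      intro a ha
      rw [RingHom.mem_ker]
      show L a = 0
      rw [← hkt, RingHom.comp_apply, ← hw, Over.comp_left, he, Scheme.Hom.comp_appTop, Scheme.Hom.comp_appTop]
      show w.left.appTop (e.hom.appTop ((Spec.map _).appTop ((Scheme.ΓSpecIso (CommRingCat.of A)).inv a))) = 0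
      rw [hmk, Ideal.Quotient.eq_zero_iff_mem.2 ha, map_zero, map_zero, map_zero]
    · intro h
      let L' : A ⧸ I →+* Γ(Y.left, ⊤) := Ideal.Quotient.lift I L fun a ha => h ha
      let f : Y.left ⟶ Spec (CommRingCat.of (A ⧸ I)) := Y.left.toSpecΓ ≫ Spec.map (CommRingCat.ofHom L')
      have hf : f ≫ Spec.map (CommRingCat.ofHom (Ideal.Quotient.mk I)) = k.left := by
        refine ext_of_isAffine ?_
        rw [← cancel_epi (Scheme.ΓSpecIso (CommRingCat.of A)).inv]
        refine CommRingCat.hom_ext (Eq.trans ?_ hkt.symm)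
        refine RingHom.ext fun a => ?_
        show (f ≫ Spec.map _).appTop ((Scheme.ΓSpecIso (CommRingCat.of A)).inv a) = L a
        rw [Category.assoc, ← Spec.map_comp, ← CommRingCat.ofHom_comp, Ideal.Quotient.lift_comp_mk,
          Scheme.Hom.comp_appTop, Scheme.toSpecΓ_appTop]
        refine (RingHom.congr_fun (congrArg CommRingCat.Hom.hom (?_ :
          (Scheme.ΓSpecIso (CommRingCat.of A)).inv ≫ (Spec.map (CommRingCat.ofHom L)).appTop ≫
            (Scheme.ΓSpecIso Γ(Y.left, ⊤)).hom = CommRingCat.ofHom L)) a)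
        rw [← Scheme.ΓSpecIso_inv_naturality_assoc]
        exact (congrArg (CommRingCat.ofHom L ≫ ·) (Scheme.ΓSpecIso _).inv_hom_id).trans (Category.comp_id _)
      have hfe : (f ≫ e.inv) ≫ i.left = k.left :=
        ((congrArg ((f ≫ e.inv) ≫ ·) he).trans ((Category.assoc _ _ _).trans
          (congrArg (f ≫ ·) (e.inv_hom_id_assoc _)))).trans hf
      let w : Y ⟶ E := Over.homMk (f ≫ e.inv)
        ((congrArg ((f ≫ e.inv) ≫ ·) (Over.w i)).symm.trans ((Category.assoc _ _ _).symm.trans
          ((congrArg (· ≫ (tst T A).hom) hfe).trans (Over.w k))))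
      have hw : w ≫ i = k := Over.OverMorphism.ext hfe
      rw [← hw, Category.assoc, hie, ← Category.assoc, MonObj.comp_one]
  refine ⟨I, hpts, fun B _ ψ χ χ' h h' => ?_, ?_⟩
  · letI : Algebra R B := ψ.toAlgebra
    have conv : ∀ χ : Multiplicative M →* B, I ≤ RingHom.ker (ev ψ χ) ↔
        lift (DSPtsLib.dsPt ((gam (T := T) B).toMonoidHom.comp χ)) (tq T B) ≫ φ = 1 := fun χ => by
      rw [hpts]
      refine forall₂_congr fun x _ => ?_
      rw [RingHom.mem_ker, RingHom.mem_ker, ev_gam]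
      exact (map_eq_zero_iff ((Scheme.ΓSpecIso (CommRingCat.of B)).inv.hom)
        (Scheme.ΓSpecIso (CommRingCat.of B)).commRingCatIsoToRingEquiv.symm.injective).symm
    rw [conv] at h h' ⊢
    have : (gam (T := T) B).toMonoidHom.comp (χ * χ') =
        (gam (T := T) B).toMonoidHom.comp χ * (gam (T := T) B).toMonoidHom.comp χ' :=
      MonoidHom.ext fun m => map_mul (gam (T := T) B) _ _
    rw [this, DSPtsLib.dsPt_mul, hφ, h, h', _root_.one_mul]
  · have h := (hpts T (𝟙 T) 1).1 ?_
    · simpa using h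
    · rw [DSPtsLib.dsPt_one]
      have e := hφ T 1 1 (𝟙 T)
      rw [_root_.one_mul] at e
      exact left_eq_mul.1 e

end MultSubLib
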