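import Groth.Agent.MultSubLib.Basic
import Groth.Agent.MultSubLib.Ker
import Groth.Agent.TrivLocusLib.Global
import Groth.Agent.DescHomLib.MultBC

/-!
The injective families of homomorphisms out of a finite diagonalisable group form an open and closed locus.
-/

set_option autoImplicit false
set_option backward.isDefEq.respectTransparency false

noncomputable section

universe u

open CategoryTheory CategoryTheory.Limits MonoidalCategory CartesianMonoidalCategory AlgebraicGeometry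
open scoped MonObj

namespace MultSubLib

open Groth.Agent.RedRank (homOf isMonHom_homOf comp_homOf bcEquiv_lift bcEquiv_one proj pobj piso piso_hom_comp)
open Groth.Agent.TrivLocus (Triv)
open Groth.Agent.HomRep (bcEquiv)

variable {S : Scheme.{u}}

theorem triv_homOf_iff {H G : Over S} [GrpObj H] [GrpObj G] {T : Over S} (φ : H ⊗ T ⟶ G) {Z : Scheme.{u}}
    (g : Z ⟶ T.left) :
    Triv (homOf φ) g ↔ ∀ (Y : Over S) (q : Y.left ⟶ Z) (w : (q ≫ g) ≫ T.hom = Y.hom) (h : Y ⟶ H),
      lift h (Over.homMk (q ≫ g) w) ≫ φ = 1 := by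
  constructor
  · intro hk Y q w h
    let a : Y ⟶ T := Over.homMk (q ≫ g) w
    have h1 := hk (pobj a) q rfl (bcEquiv T.hom H (pobj a) ((piso a).hom ≫ h))
    rw [← bcEquiv_lift, ← bcEquiv_one T.hom (pobj a) (G := G)] at h1
    have h2 := (bcEquiv T.hom G (pobj a)).injective h1
    rwa [← MonObj.comp_one (piso a).hom, cancel_epi] at h2
  · intro hk Y q hq y
    have w : (q ≫ g) ≫ T.hom = ((Over.map T.hom).obj Y).hom := by
      rw [hq]
      rfl
    have ha : (Over.homMk (q ≫ g) w : (Over.map T.hom).obj Y ⟶ T) = proj T Y := Over.OverMorphism.ext hq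
    rw [comp_homOf, ← ha]
    exact (congrArg (bcEquiv T.hom G Y) (hk ((Over.map T.hom).obj Y) q w _)).trans (bcEquiv_one T.hom Y)

/-- A point of the parameters. -/
def ptObj (A : Over S) (x : A.left) : Over S := Over.mk (A.left.fromSpecResidueField x ≫ A.hom)

/-- A point of the parameters, as a map. -/
def ptHom (A : Over S) (x : A.left) : ptObj A x ⟶ A := Over.homMk (A.left.fromSpecResidueField x) rfl

variable {H G : Over S} [GrpObj H] [GrpObj G]

theorem famMono_pt_of_famMono {A : Over S} {φ : H ⊗ A ⟶ G} {T : Over S} (v : T ⟶ A)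
    (hm : FamMono ((H ◁ v) ≫ φ)) (t : T.left) : FamMono ((H ◁ ptHom A (v.left t)) ≫ φ) := by
  let d : ptObj T t ⟶ ptObj A (v.left t) := Over.homMk (Spec.map (v.left.residueFieldMap t)) (by
    show Spec.map _ ≫ A.left.fromSpecResidueField _ ≫ A.hom = T.left.fromSpecResidueField t ≫ T.hom
    rw [Scheme.Hom.SpecMap_residueFieldMap_fromSpecResidueField_assoc, Over.w v])
  refine FamMono.of_cover (fun _ : PUnit.{u + 1} => d) (fun _ => ?_) (fun x => ⟨PUnit.unit, ?_⟩) fun _ => ?_
  · show Flat (Spec.map _)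
    rw [HasRingHomProperty.Spec_iff (P := @Flat)]
    let ψ := (v.left.residueFieldMap t).hom
    letI := ψ.toAlgebra
    exact RingHom.flat_algebraMap_iff.2 (inferInstance :
      Module.Flat (A.left.residueField (v.left t)) (T.left.residueField t))
  · exact ⟨IsLocalRing.closedPoint _, @Subsingleton.elim _
      (inferInstanceAs (Subsingleton (PrimeSpectrum (A.left.residueField _)))) _ _⟩
  · have e : d ≫ ptHom A (v.left t) = ptHom T t ≫ v :=
      Over.OverMorphism.ext (Scheme.Hom.SpecMap_residueFieldMap_fromSpecResidueField _ _)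
    rw [← whiskerLeft_comp_assoc, e, whiskerLeft_comp_assoc]
    exact hm.comp _

theorem famMono_of_field {A : Over S} {φ : H ⊗ A ⟶ G} {F : Type u} [Field F]
    {T : Over S} (v : T ⟶ A) (e : T.left ≅ Spec (CommRingCat.of F)) (x : A.left)
    (hx : v.left (e.inv (IsLocalRing.closedPoint F)) = x) (hm : FamMono ((H ◁ ptHom A x) ≫ φ)) :
    FamMono ((H ◁ v) ≫ φ) := by
  subst hx
  let κ : Spec (CommRingCat.of F) ⟶ A.left := e.inv ≫ v.left
  have hκ := Scheme.descResidueField_stalkClosedPointTo_fromSpecResidueField F A.left κ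
  let d : T ⟶ ptObj A (κ (IsLocalRing.closedPoint F)) :=
    Over.homMk (e.hom ≫ Spec.map (A.left.descResidueField (Scheme.stalkClosedPointTo κ))) (by
      show (_ ≫ _) ≫ A.left.fromSpecResidueField _ ≫ A.hom = T.hom
      rw [Category.assoc, reassoc_of% hκ]
      simp [κ])
  have h1 : d ≫ ptHom A (κ (IsLocalRing.closedPoint F)) = v := Over.OverMorphism.ext (by
    show (e.hom ≫ _) ≫ A.left.fromSpecResidueField _ = v.left
    rw [Category.assoc, hκ]
    exact e.hom_inv_id_assoc _)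
  rw [← h1, whiskerLeft_comp_assoc]
  exact hm.comp _

section Diag

variable {N : Type} [AddCommGroup N] [Finite N] {A : Over S}

theorem exists_open_famMono [IsSeparated G.hom] (φ : Red.DS S N ⊗ A ⟶ G)
    (hφ : AutFam.IsHomFamily (Red.DS S N) G φ) (x : A.left) (hx : FamMono ((Red.DS S N ◁ ptHom A x) ≫ φ)) :
    ∃ O : A.left.Opens, x ∈ O ∧ FamMono ((Red.DS S N ◁ (Over.homMk O.ι rfl : Over.mk (O.ι ≫ A.hom) ⟶ A)) ≫ φ) := by
  obtain ⟨V, hV, hxV, -⟩ := exists_isAffineOpen_mem_and_subset (X := A.left) (x := x) (U := ⊤) (Set.mem_univ x)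
  let T : Over S := Over.mk (V.ι ≫ A.hom)
  let j : T ⟶ A := Over.homMk V.ι rfl
  haveI : IsAffine T.left := hV
  let φV := (Red.DS S N ◁ j) ≫ φ
  have hφV : AutFam.IsHomFamily (Red.DS S N) G φV := RepDescLib.isHomFamily_comp _ _ j hφ
  obtain ⟨I, hI, -, h1⟩ := exists_kernel_ideal φV hφV
  let z : T.left := ⟨x, hxV⟩
  let R := Γ(T.left, ⊤)
  let q : PrimeSpectrum R := T.left.isoSpec.hom z
  let κ := q.asIdeal.ResidueField
  let P := DiagHomLib.tst T κ
  have hP : FamMono ((Red.DS S N ◁ DiagHomLib.tq T κ) ≫ φV) := by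
    rw [← whiskerLeft_comp_assoc]
    refine famMono_of_field (DiagHomLib.tq T κ ≫ j) (Iso.refl _) x ?_ hx
    have h2 : (DiagHomLib.tq T κ).left (IsLocalRing.closedPoint κ) = z := by
      show T.left.isoSpec.inv ((Spec.map (CommRingCat.ofHom (algebraMap R κ))) (IsLocalRing.closedPoint κ)) = z
      have h3 : (Spec.map (CommRingCat.ofHom (algebraMap R κ))) (IsLocalRing.closedPoint κ) = q := by
        refine PrimeSpectrum.ext ?_
        show Ideal.comap (algebraMap R κ) (IsLocalRing.maximalIdeal κ) = q.asIdeal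
        rw [IsLocalRing.isField_iff_maximalIdeal_eq.1 (Field.toIsField κ)]
        exact Ideal.ker_algebraMap_residueField _
      rw [h3]
      show (T.left.isoSpec.hom ≫ T.left.isoSpec.inv) z = z
      rw [Iso.hom_inv_id]
      rfl
    show V.ι ((DiagHomLib.tq T κ).left (IsLocalRing.closedPoint κ)) = x
    rw [h2]
    rfl
  have htrv : Groth.Agent.MonoLocus.Trv I (algebraMap R κ) := by
    intro B _ g χ hχ
    letI : Algebra R B := (g.comp (algebraMap R κ)).toAlgebra
    let L : κ →+* Γ((DiagHomLib.tst T B).left, ⊤) := (Scheme.ΓSpecIso (CommRingCat.of B)).inv.hom.comp g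
    obtain ⟨k, hk, -⟩ := DiagHomLib.exists_toTst (DiagHomLib.tq T B) κ L (by
      rw [RingHom.comp_assoc]
      show ((Scheme.ΓSpecIso (CommRingCat.of B)).inv.hom).comp (algebraMap R B) = _
      refine RingHom.ext fun r => ?_
      have h := ev_gam (T := T) (A := B) (1 : Multiplicative N →* B) (MonoidAlgebra.single 1 r)
      rw [Groth.Agent.MonoLocus.ev_single, Groth.Agent.MonoLocus.ev_single, map_one, _root_.mul_one, map_one,
        _root_.mul_one] at h
      exact h.symm)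
    have hkill : lift (DSPtsLib.dsPt ((DiagHomLib.gam (T := T) B).toMonoidHom.comp χ)) (DiagHomLib.tq T B) ≫ φV = 1 := by
      rw [hI]
      intro a ha
      rw [RingHom.mem_ker, ev_gam]
      have h0 : Groth.Agent.MonoLocus.ev (algebraMap R B) χ a = 0 := hχ ha
      rw [h0]
      exact map_zero (Scheme.ΓSpecIso (CommRingCat.of B)).inv.hom
    have h := hP _ k (DSPtsLib.dsPt ((DiagHomLib.gam (T := T) B).toMonoidHom.comp χ)) (by
      rw [lift_whiskerLeft_assoc, hk, hkill])
    have h' := congrArg chars h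
    rw [chars_dsPt, chars_one] at h'
    refine MonoidHom.ext fun m => (DiagHomLib.gam (T := T) B).injective ?_
    rw [MonoidHom.one_apply, map_one]
    exact DFunLike.congr_fun h' m
  obtain ⟨g, hg, htriv⟩ := exists_trv_nbhd I h1 q.asIdeal htrv
  let W : T.left.Opens := T.left.basicOpen g
  have hzW : z ∈ W := by
    show z ∈ T.left.basicOpen g
    rw [← Scheme.toSpecΓ_preimage_basicOpen]
    exact hg
  refine ⟨V.ι ''ᵁ W, ⟨z, hzW, rfl⟩, fun Y t h e => ?_⟩
  let iW : (V.ι ''ᵁ W : A.left.Opens) ≤ V := by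
    rintro _ ⟨w, -, rfl⟩
    exact w.2
  let l : Y ⟶ T := Over.homMk (t.left ≫ A.left.homOfLE iW) (by
    show (t.left ≫ A.left.homOfLE iW) ≫ V.ι ≫ A.hom = Y.hom
    rw [Category.assoc, Scheme.homOfLE_ι_assoc]
    exact Over.w t)
  have hl : l ≫ j = t ≫ (Over.homMk (V.ι ''ᵁ W).ι rfl : Over.mk ((V.ι ''ᵁ W).ι ≫ A.hom) ⟶ A) :=
    Over.OverMorphism.ext (by
      show (t.left ≫ A.left.homOfLE iW) ≫ V.ι = t.left ≫ (V.ι ''ᵁ W).ι
      rw [Category.assoc, Scheme.homOfLE_ι])
  rw [lift_whiskerLeft_assoc, ← hl, ← lift_whiskerLeft_assoc, ← dsPt_chars h, hI] at e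
  have hunit : IsUnit (l.left.appTop g) := by
    refine RingedSpace.isUnit_of_isUnit_germ _ ⊤ _ fun y hy => ?_
    refine (Y.left.mem_basicOpen (l.left.appTop g) y hy).1 ?_
    rw [← Scheme.preimage_basicOpen_top]
    show l.left y ∈ W
    obtain ⟨w, hw, hwe⟩ := (t.left y).2
    have : w = l.left y := Subtype.ext (hwe.trans (by
      show _ = V.ι ((A.left.homOfLE iW) (t.left y))
      rw [← Scheme.Hom.comp_apply (A.left.homOfLE iW), Scheme.homOfLE_ι]
      rfl))
    rwa [← this]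
  exact chars_injective ((htriv _ _ _ hunit e).trans chars_one.symm)

theorem exists_open_not_famMono [IsSeparated G.hom] [LocallyOfFiniteType G.hom] (φ : Red.DS S N ⊗ A ⟶ G)
    (hφ : AutFam.IsHomFamily (Red.DS S N) G φ) (x : A.left) (hx : ¬ FamMono ((Red.DS S N ◁ ptHom A x) ≫ φ)) :
    ∃ O : A.left.Opens, x ∈ O ∧ ∀ y ∈ O, ¬ FamMono ((Red.DS S N ◁ ptHom A y) ≫ φ) := by
  let T := ptObj A x
  haveI : IsAffine T.left := inferInstanceAs (IsAffine (Spec _))
  let φx := (Red.DS S N ◁ ptHom A x) ≫ φ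
  have hφx : AutFam.IsHomFamily (Red.DS S N) G φx := RepDescLib.isHomFamily_comp _ _ _ hφ
  obtain ⟨I, hI, hmul, -⟩ := exists_kernel_ideal φx hφx
  have hfield : IsField Γ(T.left, ⊤) :=
    (Scheme.ΓSpecIso (A.left.residueField x)).commRingCatIsoToRingEquiv.toMulEquiv.isField
      (Field.toIsField (A.left.residueField x))
  letI : Field Γ(T.left, ⊤) := hfield.toField
  obtain ⟨Y, hY⟩ := not_forall.1 hx
  obtain ⟨t, ht⟩ := not_forall.1 hY
  obtain ⟨h, hh⟩ := not_forall.1 ht
  obtain ⟨hkill, hne⟩ := Classical.not_imp.1 hh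
  have hne' : chars h ≠ 1 := fun e => hne (chars_injective (e.trans chars_one.symm))
  rw [← dsPt_chars h, hI] at hkill
  obtain ⟨N₁, hN₁, hkilled⟩ := exists_subgroup_killed I hmul t.left.appTop.hom (chars h) hne' hkill
  let π : Multiplicative N →* Multiplicative (N ⧸ N₁) := (QuotientAddGroup.mk' N₁).toMultiplicative
  let ψ := tw π φ
  have hψ : AutFam.IsHomFamily (Red.DS S (N ⧸ N₁)) G ψ := isHomFamily_tw π hφ
  haveI : IsMonHom (homOf ψ) := isMonHom_homOf hψ
  haveI : IsSeparated (Red.bc A.hom G).hom := inferInstanceAs (IsSeparated (pullback.snd G.hom A.hom))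
  haveI : LocallyOfFiniteType (Red.bc A.hom G).hom :=
    inferInstanceAs (LocallyOfFiniteType (pullback.snd G.hom A.hom))
  obtain ⟨O, -, hO, -⟩ := Groth.Agent.TrivLocus.exists_locus
    (Groth.Agent.DescHom.isMultTypeFT_bc (isMultTypeFT_DS S (N ⧸ N₁)) A.hom)
    (Groth.Agent.TrivLocus.eqFinPres_of_lft (u := homOf ψ))
  refine ⟨O, (hO x).2 ?_, fun y hy hmy => hN₁ ?_⟩
  · rw [triv_homOf_iff]
    intro Y q w g
    let t' : Y ⟶ T := Over.homMk q ((Category.assoc _ _ _).symm.trans w)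
    rw [lift_tw, show (Over.homMk (q ≫ A.left.fromSpecResidueField x) w : Y ⟶ A) = t' ≫ ptHom A x from
      Over.OverMorphism.ext rfl, ← lift_whiskerLeft_assoc, ← dsPt_chars (g ≫ dd S π), hI, chars_comp_dd]
    refine hkilled _ _ _ fun m hm => ?_
    have : π (Multiplicative.ofAdd m) = 1 := (QuotientAddGroup.eq_zero_iff m).2 hm
    show chars g (π (Multiplicative.ofAdd m)) = 1
    rw [this, map_one]
  · have h2 := (triv_homOf_iff ψ _).1 ((hO y).1 hy)
    let P := Red.DS S (N ⧸ N₁) ⊗ ptObj A y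
    have w : ((snd (Red.DS S (N ⧸ N₁)) (ptObj A y)).left ≫ A.left.fromSpecResidueField y) ≫ A.hom = P.hom :=
      (Category.assoc _ _ _).trans (Over.w (snd (Red.DS S (N ⧸ N₁)) (ptObj A y)))
    have h3 := h2 P (snd (Red.DS S (N ⧸ N₁)) (ptObj A y)).left w (fst (Red.DS S (N ⧸ N₁)) (ptObj A y))
    rw [lift_tw, show (Over.homMk ((snd (Red.DS S (N ⧸ N₁)) (ptObj A y)).left ≫ A.left.fromSpecResidueField y) w : P ⟶ A)
      = snd _ _ ≫ ptHom A y from Over.OverMorphism.ext rfl, ← lift_whiskerLeft_assoc] at h3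
    have h4 := hmy _ _ _ h3
    haveI : Nonempty (ptObj A y).left := inferInstanceAs (Nonempty (PrimeSpectrum (A.left.residueField y)))
    have h5 : π = 1 := dd_injective (S := S) (T := ptObj A y) (h4.trans (by
      refine chars_injective ?_
      rw [chars_comp_dd, chars_one, MonoidHom.comp_one]))
    rw [eq_top_iff]
    intro m _
    exact (QuotientAddGroup.eq_zero_iff m).1 (DFunLike.congr_fun h5 (Multiplicative.ofAdd m))

/-- The open and closed locus of injective families. -/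
theorem exists_mono_locus [IsSeparated G.hom] [LocallyOfFiniteType G.hom] (φ : Red.DS S N ⊗ A ⟶ G)
    (hφ : AutFam.IsHomFamily (Red.DS S N) G φ) :
    ∃ W : A.left.Opens, IsClosed (W : Set A.left) ∧
      ∀ (T : Over S) (v : T ⟶ A), FamMono ((Red.DS S N ◁ v) ≫ φ) ↔ ∀ t, v.left t ∈ W := by
  let W₀ : Set A.left := {x | FamMono ((Red.DS S N ◁ ptHom A x) ≫ φ)}
  choose O hO hOm using fun x : W₀ => exists_open_famMono φ hφ x.1 x.2
  have hsub : ∀ (x : W₀), (O x : Set A.left) ⊆ W₀ := fun x y hy => by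
    have := famMono_pt_of_famMono (φ := φ) (Over.homMk (O x).ι rfl : Over.mk ((O x).ι ≫ A.hom) ⟶ A) (hOm x) ⟨y, hy⟩
    exact this
  have hopen : IsOpen W₀ := isOpen_iff_forall_mem_open.2 fun x hx => ⟨O ⟨x, hx⟩, hsub _, (O _).2, hO ⟨x, hx⟩⟩
  have hclosed : IsClosed W₀ := by
    rw [← isOpen_compl_iff]
    refine isOpen_iff_forall_mem_open.2 fun x hx => ?_
    obtain ⟨U, hxU, hU⟩ := exists_open_not_famMono φ hφ x hx
    exact ⟨U, hU, U.2, hxU⟩
  refine ⟨⟨W₀, hopen⟩, hclosed, fun T v => ⟨fun hm t => famMono_pt_of_famMono v hm t, fun hv => ?_⟩⟩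
  let U : T.left → T.left.Opens := fun t => v.left ⁻¹ᵁ O ⟨v.left t, hv t⟩
  let T' : T.left → Over S := fun t => Over.mk ((U t).ι ≫ T.hom)
  let a : ∀ t, T' t ⟶ T := fun t => Over.homMk (U t).ι rfl
  refine FamMono.of_cover a (fun t => inferInstanceAs (Flat (U t).ι))
    (fun t => ⟨t, ⟨t, hO ⟨v.left t, hv t⟩⟩, rfl⟩) fun t => ?_
  let b : T' t ⟶ Over.mk ((O ⟨v.left t, hv t⟩).ι ≫ A.hom) :=
    Over.homMk (v.left ∣_ O ⟨v.left t, hv t⟩) (by
      show (v.left ∣_ _) ≫ _ ≫ A.hom = (U t).ι ≫ T.hom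
      rw [morphismRestrict_ι_assoc, Over.w v])
  have e : a t ≫ v = b ≫ (Over.homMk (O ⟨v.left t, hv t⟩).ι rfl : Over.mk ((O ⟨v.left t, hv t⟩).ι ≫ A.hom) ⟶ A) :=
    Over.OverMorphism.ext (morphismRestrict_ι _ _).symm
  rw [← whiskerLeft_comp_assoc, e, whiskerLeft_comp_assoc]
  exact (hOm _).comp b

end Diag

end MultSubLib
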