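import Groth.Agent.MultSubLib.Glue
import Groth.Agent.RedRankLib.SubDescent

/-!
The universal subgroup on the sum of the pieces.
-/

set_option autoImplicit false
set_option backward.isDefEq.respectTransparency false

noncomputable section

universe u

open CategoryTheory CategoryTheory.Limits MonoidalCategory CartesianMonoidalCategory AlgebraicGeometry
open scoped MonObj

namespace MultSubLib

open Groth.Agent.RedRank (homOf isMonHom_homOf exists_homOf_eq isHomFamily_of_isMonHom LocIn)
open Groth.Agent.HomRep (bcEquiv)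

variable {S : Scheme.{u}} (G : Over S) [GrpObj G] [IsAffineHom G.hom] [LocallyOfFinitePresentation G.hom]

theorem uu_comp (k : Kp.{u}) : (uu G k).left ≫ (MM G).hom = (pc G k).P.hom := Over.w (uu G k)

/-- The base change along the family of a piece. -/
def cmpIso (k : Kp.{u}) : Red.bc (uu G k).left (Red.bc (MM G).hom G) ≅ Red.bc (pc G k).P.hom G :=
  ActBC.bcCompIso _ _ G (uu_comp G k)

theorem cmpIso_inv_left_fst (k : Kp.{u}) :
    (cmpIso G k).inv.left ≫ pullback.fst (Red.bc (MM G).hom G).hom (uu G k).left ≫ pullback.fst G.hom (MM G).hom =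
      pullback.fst G.hom (pc G k).P.hom := by
  rw [← ActBC.bcCompIso_hom_left_fst (uu G k).left (MM G).hom G (uu_comp G k), ← Category.assoc, ← Over.comp_left]
  show ((cmpIso G k).inv ≫ (cmpIso G k).hom).left ≫ _ = _
  rw [Iso.inv_hom_id, Over.id_left, Category.id_comp]

/-- The universal subgroup over the families of a piece. -/
def jP (k : Kp.{u}) : Red.bc (pc G k).P.hom (Red.DS S (NN k.down)) ⟶ Red.bc (uu G k).left (Red.bc (MM G).hom G) :=
  homOf (pc G k).φ ≫ (cmpIso G k).inv

theorem isMonHom_jP (k : Kp.{u}) : IsMonHom (jP G k) := by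
  haveI := isMonHom_homOf (pc G k).hom
  haveI : IsMonHom (cmpIso G k).hom := ActBC.bcCompIso_isMonHom _ _ _
  haveI : IsMonHom (cmpIso G k).inv := inferInstance
  exact inferInstanceAs (IsMonHom (homOf (pc G k).φ ≫ (cmpIso G k).inv))

theorem mono_homOf {H : Over S} [GrpObj H] {T : Over S} {φ : H ⊗ T ⟶ G} (hφ : AutFam.IsHomFamily H G φ)
    (hm : FamMono φ) : Mono (homOf φ) := by
  haveI := isMonHom_homOf hφ
  exact (Groth.Agent.RedRank.mono_iff_ktriv_id _).2
    ((Groth.Agent.RedRank.ktriv_homOf_iff φ _).2 fun Y q w h e => hm Y _ h e)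

theorem mono_jP (k : Kp.{u}) : Mono (jP G k) := by
  haveI := mono_homOf G (pc G k).hom (pc G k).mono
  exact inferInstanceAs (Mono (homOf (pc G k).φ ≫ (cmpIso G k).inv))

theorem jP_left_fst (k : Kp.{u}) :
    (jP G k).left ≫ pullback.fst (Red.bc (MM G).hom G).hom (uu G k).left ≫ pullback.fst G.hom (MM G).hom =
      (pc G k).φ.left := by
  refine (Category.assoc _ _ _).trans ((congrArg ((homOf (pc G k).φ).left ≫ ·) (cmpIso_inv_left_fst G k)).trans ?_)
  exact homOf_left_fst _

theorem locIn_jP (k l : Kp.{u}) :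
    LocIn (uu G l).left (Red.bc (MM G).hom G) (jP G l)
      ((bcEquiv (uu G k).left (Red.bc (MM G).hom G) _).symm (jP G k)) := by
  intro Z z
  let K := (VP G k).K
  let X : Over S := Over.mk (Z.hom ≫ (pc G l).P.hom)
  let y : X ⟶ (pc G l).P := Over.homMk Z.hom rfl
  have hz : (z.left ≫ (VP G k).k) ≫ (uu G k).left = Z.hom ≫ (uu G l).left :=
    (Category.assoc _ _ _).trans (Over.w z)
  let x : X ⟶ (pc G k).P := Over.homMk (z.left ≫ (VP G k).k) (by
    show (z.left ≫ (VP G k).k) ≫ (pc G k).P.hom = Z.hom ≫ (pc G l).P.hom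
    exact (congrArg ((z.left ≫ (VP G k).k) ≫ ·) (uu_comp G k).symm).trans ((Category.assoc _ _ _).symm.trans
      ((congrArg (· ≫ (MM G).hom) hz).trans ((Category.assoc _ _ _).trans (congrArg (Z.hom ≫ ·) (uu_comp G l))))))
  obtain ⟨e, he1, he2⟩ := (fT_same_pull x).symm.trans
    ((same_of_uu_eq x y (Over.OverMorphism.ext hz)).trans (fT_same_pull y))
  let s : Z.left ⟶ ((VP G k).pull x.left).K := pullback.lift z.left (𝟙 _) (Category.id_comp _).symm
  have hs : (s ≫ e.hom) ≫ ((VP G l).pull y.left).k = 𝟙 _ :=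
    (Category.assoc _ _ _).trans ((congrArg (s ≫ ·) he1).trans (pullback.lift_snd _ _ _))
  have hs' : (s ≫ e.hom) ≫ ((VP G l).pull y.left).c = z.left ≫ (VP G k).c := by
    refine (Category.assoc _ _ _).trans ((congrArg (s ≫ ·) he2).trans ?_)
    exact pullback.lift_fst_assoc _ _ _ _
  let a₀ : Z.left ⟶ (VP G l).K := (s ≫ e.hom) ≫ pullback.fst (VP G l).k y.left
  have ha : a₀ ≫ (VP G l).k = Z.hom :=
    (Category.assoc _ _ _).trans ((congrArg ((s ≫ e.hom) ≫ ·) pullback.condition).trans
      ((Category.assoc _ _ _).symm.trans ((congrArg (· ≫ y.left) hs).trans (Category.id_comp _))))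
  refine ⟨Over.homMk a₀ ha, bc2_ext (MM G).hom (uu G l).left G ?_⟩
  refine (Category.assoc _ _ _).trans ((congrArg (a₀ ≫ ·) (jP_left_fst G l)).trans ?_)
  refine ((Category.assoc _ _ _).trans hs').trans ?_
  rw [← Category.assoc _ (pullback.fst (Red.bc (MM G).hom G).hom (uu G l).left), bcEquiv_left_fst]
  show z.left ≫ (pc G k).φ.left = (z.left ≫ _) ≫ _
  refine (congrArg (z.left ≫ ·) ?_).trans (Category.assoc _ _ _).symm
  refine Eq.trans ?_ (congrArg (· ≫ pullback.fst G.hom (MM G).hom)
    (bcEquiv_symm_left (uu G k).left (Red.bc (MM G).hom G) (jP G k))).symm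
  exact (jP_left_fst G k).symm.trans (Category.assoc _ _ _).symm

/-- The universal subgroup. -/
theorem exists_univ : ∃ (K : Over (MM G).left) (_ : GrpObj K) (j : K ⟶ Red.bc (MM G).hom G) (V : Tri G.left (MM G).left),
    IsMonHom j ∧ Mono j ∧
      (∀ k : Kp.{u}, ∃ e : Red.bc (pc G k).P.hom (Red.DS S (NN k.down)) ≅ Red.bc (uu G k).left K,
        IsMonHom e.hom) ∧
      (∃ e : K.left ≅ V.K, e.hom ≫ V.k = K.hom ∧ e.hom ≫ V.c = j.left ≫ pullback.fst G.hom (MM G).hom) ∧
      ∀ k : Kp.{u}, Tri.Same (VP G k) (V.pull (uu G k).left) := by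
  haveI := (fpqc_uu (G := G)).1
  haveI := fun k => isMonHom_jP G k
  haveI := fun k => mono_jP G k
  haveI : ∀ k : Kp.{u}, IsAffineHom (Red.bc (pc G k).P.hom (Red.DS S (NN k.down))).hom := fun k => by
    haveI := isFinite_DS S (NN k.down)
    exact MorphismProperty.pullback_snd (P := @IsAffineHom) _ _ inferInstance
  obtain ⟨K, hK, j, hj, hjm, -, -, he⟩ := Groth.Agent.RedRank.exists_descended (Red.bc (MM G).hom G)
    (fun k : Kp.{u} => (uu G k).left) (T'' := fun k => Red.bc (pc G k).P.hom (Red.DS S (NN k.down))) (jP G) (locIn_jP G)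
  haveI := hjm
  haveI : Mono j.left := by
    show Mono ((Over.forget _).map j)
    infer_instance
  let V : Tri G.left (MM G).left :=
    { K := K.left
      k := K.hom
      c := j.left ≫ pullback.fst G.hom (MM G).hom
      mono := fun a b h h' => (cancel_mono j.left).1 (pullback.hom_ext
        ((Category.assoc _ _ _).trans (h'.trans (Category.assoc _ _ _).symm))
        ((Category.assoc _ _ _).trans ((congrArg (a ≫ ·) (Over.w j)).trans
          (h.trans ((congrArg (b ≫ ·) (Over.w j)).symm.trans (Category.assoc _ _ _).symm))))) }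
  refine ⟨K, hK, j, V, hj, hjm, fun k => ?_, ⟨Iso.refl _, Category.id_comp _, Category.id_comp _⟩, fun k => ?_⟩
  · obtain ⟨e, h1, -⟩ := he k
    exact ⟨e, h1⟩
  · obtain ⟨e, -, h2⟩ := he k
    refine ⟨(Over.forget _).mapIso e, Over.w e.hom, ?_⟩
    show e.hom.left ≫ pullback.fst K.hom (uu G k).left ≫ j.left ≫ pullback.fst G.hom (MM G).hom = (pc G k).φ.left
    refine Eq.trans ?_ (jP_left_fst G k)
    rw [← h2, Over.comp_left, Category.assoc, ActBC.pullback_map_left_fst_assoc]

end MultSubLib
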