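import Groth.Agent.MultSubLib.Locus
import Groth.Agent.FinHomLib.HomGrp
import Groth.Agent.MultEqLib.Props
import Groth.Agent.QuotLib.Exists
import Groth.Agent.QuotLib.Sep
import Groth.Agent.TorsorQuotLib.Main
import Groth.Agent.S0114
import Mathlib.AlgebraicGeometry.Morphisms.LocalFlatDescent

/-!
The scheme of subgroups of an affine group which are diagonalisable with a given finite group of characters.
-/

set_option autoImplicit false
set_option backward.isDefEq.respectTransparency false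

noncomputable section

universe u

open CategoryTheory CategoryTheory.Limits MonoidalCategory CartesianMonoidalCategory AlgebraicGeometry
open scoped MonObj

namespace MultSubLib

variable {S : Scheme.{u}}

/-- The injective families with characters `N`, and their quotient by the automorphisms of `N`. -/
structure Piece (G : Over S) [GrpObj G] (N : Type) [AddCommGroup N] where
  /-- the injective families -/
  P : Over S
  /-- the universal family -/
  φ : Red.DS S N ⊗ P ⟶ G
  hom : AutFam.IsHomFamily (Red.DS S N) G φ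
  mono : FamMono φ
  univ : ∀ (T : Over S) (ψ : Red.DS S N ⊗ T ⟶ G), AutFam.IsHomFamily (Red.DS S N) G ψ → FamMono ψ →
    ∃! a : T ⟶ P, (Red.DS S N ◁ a) ≫ φ = ψ
  /-- the subgroups -/
  M : Over S
  /-- the subgroup of a family -/
  q : P ⟶ M
  fpqc : DescLib.Fpqc q.left
  quasiCompact : QuasiCompact q.left
  lfp_q : LocallyOfFinitePresentation q.left
  affine : IsAffineHom M.hom
  lfp : LocallyOfFinitePresentation M.hom
  inv : ∀ (σ : Multiplicative N ≃* Multiplicative N) {T : Over S} (x x' : T ⟶ P),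
    (Red.DS S N ◁ x') ≫ φ = tw σ.toMonoidHom ((Red.DS S N ◁ x) ≫ φ) → x ≫ q = x' ≫ q
  ker : ∀ {T : Over S} (x x' : T ⟶ P), x ≫ q = x' ≫ q → ∀ z : T.left, ∃ (U : Over S) (j : U ⟶ T),
    IsOpenImmersion j.left ∧ z ∈ Set.range j.left ∧ ∃ σ : Multiplicative N ≃* Multiplicative N,
      (Red.DS S N ◁ (j ≫ x')) ≫ φ = tw σ.toMonoidHom ((Red.DS S N ◁ (j ≫ x)) ≫ φ)

variable {N : Type} [AddCommGroup N] {G : Over S} [GrpObj G]

theorem FamMono.tw_equiv {T : Over S} {φ : Red.DS S N ⊗ T ⟶ G} (hm : FamMono φ)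
    (σ : Multiplicative N ≃* Multiplicative N) : FamMono (tw σ.toMonoidHom φ) := by
  intro Y t h e
  rw [lift_tw] at e
  have h1 := congrArg (· ≫ dd S σ.symm.toMonoidHom) (hm Y t _ e)
  simp only [Category.assoc, dd_comp_dd, MonObj.one_comp] at h1
  rwa [show σ.toMonoidHom.comp σ.symm.toMonoidHom = MonoidHom.id _ from MonoidHom.ext fun m => σ.apply_symm_apply m,
    dd_id, Category.comp_id] at h1

theorem flat_DS' (S : Scheme.{u}) (M : Type) [AddCommGroup M] : Flat (Red.DS S M).hom := by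
  have h : Flat (Red.diag (ULift.{u} ℤ) M).hom := by
    show Flat (Spec.map _)
    rw [HasRingHomProperty.Spec_iff (P := @Flat)]
    exact RingHom.flat_algebraMap_iff.2 inferInstance
  exact MorphismProperty.pullback_snd _ _ h

theorem nonempty_piece [Finite N] [IsAffineHom G.hom] [LocallyOfFinitePresentation G.hom] :
    Nonempty (Piece G N) := by
  classical
  haveI := isFinite_DS S N
  haveI := flat_DS' S N
  haveI := Groth.Agent.MultEq.lfp_DS S N
  obtain ⟨A, υ, ⟨hυ, huniv⟩, hA, -, hAfp⟩ := Groth.Agent.FinHom.exists_representsHom (Red.DS S N) G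
  haveI := hA
  haveI := hAfp inferInstance
  obtain ⟨W, hWc, hW⟩ := exists_mono_locus υ hυ
  let P : Over S := Over.mk (W.ι ≫ A.hom)
  let i : P ⟶ A := Over.homMk W.ι rfl
  haveI : IsClosedImmersion W.ι := IsClosedImmersion.of_isPreimmersion _ (by rw [Scheme.Opens.range_ι]; exact hWc)
  haveI : Mono i := Over.mono_of_mono_left _
  haveI : IsAffineHom P.hom := inferInstanceAs (IsAffineHom (W.ι ≫ A.hom))
  let φ := (Red.DS S N ◁ i) ≫ υ
  have hφ : AutFam.IsHomFamily (Red.DS S N) G φ := RepDescLib.isHomFamily_comp _ _ i hυ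
  have hm : FamMono φ := (hW P i).2 fun t => t.2
  have univ : ∀ (T : Over S) (ψ : Red.DS S N ⊗ T ⟶ G), AutFam.IsHomFamily (Red.DS S N) G ψ → FamMono ψ →
      ∃! a : T ⟶ P, (Red.DS S N ◁ a) ≫ φ = ψ := by
    intro T ψ h1 h2
    obtain ⟨v, hv, hvu⟩ := huniv T ψ h1
    have hr : Set.range v.left ⊆ Set.range W.ι := by
      rw [Scheme.Opens.range_ι]
      rintro _ ⟨t, rfl⟩
      exact (hW T v).1 (by rw [hv]; exact h2) t
    have hfac : IsOpenImmersion.lift W.ι v.left hr ≫ W.ι = v.left := IsOpenImmersion.lift_fac _ _ _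
    let a : T ⟶ P := Over.homMk (IsOpenImmersion.lift W.ι v.left hr) (by
      show _ ≫ W.ι ≫ A.hom = T.hom
      rw [← Category.assoc, hfac, Over.w v])
    have ha : a ≫ i = v := Over.OverMorphism.ext hfac
    refine ⟨a, ?_, fun b hb => ?_⟩
    · show (Red.DS S N ◁ a) ≫ (Red.DS S N ◁ i) ≫ υ = ψ
      rw [← whiskerLeft_comp_assoc, ha, hv]
    · rw [← cancel_mono i, ha]
      refine hvu _ ?_
      show (Red.DS S N ◁ (b ≫ i)) ≫ υ = ψ
      rw [whiskerLeft_comp_assoc]
      exact hb
  choose act hact hactu using fun σ : Multiplicative N ≃* Multiplicative N =>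
    univ P (tw σ.toMonoidHom φ) (isHomFamily_tw _ hφ) (hm.tw_equiv σ)
  have hact_comp : ∀ (σ : Multiplicative N ≃* Multiplicative N) {T : Over S} (x x' : T ⟶ P),
      (Red.DS S N ◁ x') ≫ φ = tw σ.toMonoidHom ((Red.DS S N ◁ x) ≫ φ) → x' = x ≫ act σ := by
    intro σ T x x' h
    refine (univ T _ (RepDescLib.isHomFamily_comp _ _ x' hφ) (hm.comp x')).unique rfl ?_
    rw [whiskerLeft_comp_assoc, hact, tw_natural, h]
  have hmul : ∀ σ δ, act (σ * δ) = act δ ≫ act σ := fun σ δ => (hact_comp σ (act δ) _ (by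
    rw [hact, hact, tw_tw]
    rfl))
  have hone : act 1 = 𝟙 P := (hactu 1 (𝟙 P) (by
    show (Red.DS S N ◁ 𝟙 P) ≫ φ = _
    rw [MonoidalCategory.whiskerLeft_id, Category.id_comp]
    exact (tw_id φ).symm)).symm
  let f : ULift.{u} (MulAut (Multiplicative N)) → (P.left ⟶ P.left) := fun g => (act g.down).left
  have fmul : ∀ g h, f (g * h) = f h ≫ f g := fun g h => congrArg CommaMorphism.left (hmul g.down h.down)
  have fone : f 1 = 𝟙 _ := congrArg CommaMorphism.left hone
  let ρ : ULift.{u} (MulAut (Multiplicative N)) →* Aut P.left :=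
    { toFun := fun g => ⟨f g, f g⁻¹, by rw [← fmul, inv_mul_cancel, fone], by rw [← fmul, mul_inv_cancel, fone]⟩
      map_one' := Iso.ext fone
      map_mul' := fun g h => Iso.ext (fmul g h) }
  haveI : Finite (Multiplicative N) := inferInstanceAs (Finite N)
  haveI : Finite (ULift.{u} (MulAut (Multiplicative N))) := by
    haveI : Finite (MulAut (Multiplicative N)) := Finite.of_injective _ MulEquiv.toEquiv_injective
    infer_instance
  obtain ⟨Y, p, hp⟩ := QuotLib.exists_quot (ρ := ρ) fun x => by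
    obtain ⟨V, hV, hxV, -⟩ := exists_isAffineOpen_mem_and_subset (X := S) (x := P.hom x) (U := ⊤) (Set.mem_univ _)
    refine ⟨P.hom ⁻¹ᵁ V, hV.preimage P.hom, fun g => ?_⟩
    show P.hom ((act g.down).left x) ∈ V
    rw [← Scheme.Hom.comp_apply, Over.w]
    exact hxV
  obtain ⟨b, hb⟩ := QuotLib.exists_desc hp P.hom fun g => Over.w (act g.down)
  have hfree : TorsorQuotLib.Free ρ := by
    intro K _ _ ξ g hg
    let T : Over S := Over.mk (ξ ≫ P.hom)
    let x : T ⟶ P := Over.homMk ξ rfl
    have hx : x ≫ act g.down = x := Over.OverMorphism.ext hg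
    let ψ := (Red.DS S N ◁ x) ≫ φ
    have h1 : tw g.down.toMonoidHom ψ = ψ := by
      conv_rhs => rw [show ψ = (Red.DS S N ◁ (x ≫ act g.down)) ≫ φ by rw [hx], whiskerLeft_comp_assoc, hact,
        tw_natural]
    have h2 : lift (fst (Red.DS S N) T ≫ dd S g.down.toMonoidHom) (snd _ _) ≫ ψ =
        lift (fst (Red.DS S N) T ≫ dd S (MonoidHom.id _)) (snd _ _) ≫ ψ := by
      rw [dd_id, Category.comp_id, lift_fst_snd, Category.id_comp]
      exact h1
    have h3 := (hm.comp x).eq_of_eq (RepDescLib.isHomFamily_comp _ _ x hφ) h2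
    haveI : Nonempty T.left := inferInstanceAs (Nonempty (PrimeSpectrum K))
    have h4 : g.down.toMonoidHom = MonoidHom.id _ := dd_injective h3
    exact ULift.ext _ _ (MulEquiv.ext fun m => DFunLike.congr_fun h4 m)
  haveI := hp.affine
  haveI : Flat p := TorsorQuotLib.flat_of_free hp hfree
  haveI : Surjective p := ⟨QuotLib.surjective hp⟩
  haveI hiso := TorsorQuotLib.isIso_desc_gr hp hfree
  haveI : LocallyOfFinitePresentation p := by
    refine MorphismProperty.of_pullback_fst_of_descendsAlong (P := @LocallyOfFinitePresentation)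
      (Q := @Surjective ⊓ @Flat ⊓ @QuasiCompact) (f := p) (g := p) ⟨⟨‹_›, ‹_›⟩, inferInstance⟩ ?_
    refine (MorphismProperty.cancel_left_of_respectsIso @LocallyOfFinitePresentation
      (Limits.Sigma.desc (TorsorQuotLib.gr hp.inv)) (pullback.fst p p)).1 ?_
    rw [show Limits.Sigma.desc (TorsorQuotLib.gr hp.inv) ≫ pullback.fst p p =
      Limits.Sigma.desc (fun _ : ULift.{u} (MulAut (Multiplicative N)) => 𝟙 P.left) from
      Limits.Sigma.hom_ext _ _ fun g => by rw [Limits.Sigma.ι_desc_assoc, TorsorQuotLib.gr_fst, Limits.Sigma.ι_desc]]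
    exact IsZariskiLocalAtSource.sigmaDesc fun _ => inferInstance
  haveI : IsAffineHom (p ≫ b) := hb ▸ inferInstanceAs (IsAffineHom (W.ι ≫ A.hom))
  haveI : LocallyOfFinitePresentation (p ≫ b) := hb ▸ inferInstanceAs (LocallyOfFinitePresentation (W.ι ≫ A.hom))
  refine ⟨⟨P, φ, hφ, hm, univ, Over.mk b, Over.homMk p hb, inferInstanceAs (DescLib.Fpqc p),
    inferInstanceAs (QuasiCompact p), inferInstanceAs (LocallyOfFinitePresentation p),
    QuotLib.isAffineHom_desc hp b, Groth.Agent.S0114.result p b, ?_, ?_⟩⟩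
  · intro σ T x x' h
    rw [hact_comp σ x x' h, Category.assoc]
    refine congrArg (x ≫ ·) (Over.OverMorphism.ext ?_)
    exact (hp.inv ⟨σ⟩).symm
  · intro T x x' h z
    have h' : x.left ≫ p = x'.left ≫ p := congrArg CommaMorphism.left h
    let Θ := Limits.Sigma.desc (TorsorQuotLib.gr hp.inv)
    let m : T.left ⟶ ∐ fun _ : ULift.{u} (MulAut (Multiplicative N)) => P.left :=
      pullback.lift x.left x'.left h' ≫ inv Θ
    obtain ⟨g, w, hw⟩ := DescLib.exists_sigma_mem (m z)
    let O := m ⁻¹ᵁ (Limits.Sigma.ι (fun _ : ULift.{u} (MulAut (Multiplicative N)) => P.left) g).opensRange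
    let j : Over.mk (O.ι ≫ T.hom) ⟶ T := Over.homMk O.ι rfl
    have hr : Set.range (O.ι ≫ m) ⊆ Set.range (Limits.Sigma.ι (fun _ : ULift.{u} (MulAut (Multiplicative N)) => P.left) g) := by
      rintro _ ⟨y, rfl⟩
      exact y.2
    let l := IsOpenImmersion.lift (Limits.Sigma.ι (fun _ : ULift.{u} (MulAut (Multiplicative N)) => P.left) g) (O.ι ≫ m) hr
    have hl : l ≫ TorsorQuotLib.gr hp.inv g = O.ι ≫ pullback.lift x.left x'.left h' := by
      rw [← Limits.Sigma.ι_desc (TorsorQuotLib.gr hp.inv) g, ← Category.assoc, IsOpenImmersion.lift_fac]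
      simp [m, Θ]
    have h1 := congrArg (· ≫ pullback.fst p p) hl
    have h2 := congrArg (· ≫ pullback.snd p p) hl
    simp only [Category.assoc, TorsorQuotLib.gr_fst, TorsorQuotLib.gr_snd, pullback.lift_fst,
      pullback.lift_snd, Category.comp_id] at h1 h2
    refine ⟨_, j, inferInstanceAs (IsOpenImmersion O.ι), ⟨⟨z, w, hw⟩, rfl⟩, g.down, ?_⟩
    have he : j ≫ x' = (j ≫ x) ≫ act g.down := Over.OverMorphism.ext (by
      show O.ι ≫ x'.left = (O.ι ≫ x.left) ≫ (act g.down).left
      rw [← h2, h1]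
      rfl)
    rw [he, whiskerLeft_comp_assoc, hact, tw_natural]

end MultSubLib
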