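import Groth.Agent.MultSubLib.Index
import Groth.Agent.MultSubLib.Family
import Groth.Agent.MultSubLib.Piece

/-!
The disjoint sum of the schemes of diagonalisable finite subgroups, and when two families give the same point of it.
-/

set_option autoImplicit false
set_option backward.isDefEq.respectTransparency false

noncomputable section

universe u

open CategoryTheory CategoryTheory.Limits MonoidalCategory CartesianMonoidalCategory AlgebraicGeometry
open scoped MonObj

namespace MultSubLib

variable {S : Scheme.{u}} (G : Over S) [GrpObj G] [IsAffineHom G.hom] [LocallyOfFinitePresentation G.hom]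

/-- The index in the universe of the schemes. -/
abbrev Kp : Type u := ULift.{u} Idx

/-- The chosen piece. -/
def pc (k : Kp.{u}) : Piece G (NN k.down) := (nonempty_piece (G := G) (N := NN k.down)).some

/-- The sum of the pieces. -/
def MM : Over S := Over.mk (Limits.Sigma.desc fun k : Kp.{u} => (pc G k).M.hom)

/-- The inclusion of a piece. -/
def jM (k : Kp.{u}) : (pc G k).M ⟶ MM G :=
  Over.homMk (Limits.Sigma.ι (fun k : Kp.{u} => (pc G k).M.left) k) (Limits.Sigma.ι_desc _ _)

/-- The subgroup of a family, in the sum. -/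
def uu (k : Kp.{u}) : (pc G k).P ⟶ MM G := (pc G k).q ≫ jM G k

/-- The subscheme of a family over a point of a piece. -/
def fT {X : Over S} {k : Kp.{u}} (x : X ⟶ (pc G k).P) : Tri G.left X.left :=
  famTri ((Red.DS S (NN k.down) ◁ x) ≫ (pc G k).φ) (RepDescLib.isHomFamily_comp _ _ x (pc G k).hom) ((pc G k).mono.comp x)

/-- The subscheme of the universal family of a piece. -/
def VP (k : Kp.{u}) : Tri G.left (pc G k).P.left := famTri (pc G k).φ (pc G k).hom (pc G k).mono

variable {G}

theorem fT_same_pull {X : Over S} {k : Kp.{u}} (x : X ⟶ (pc G k).P) : Tri.Same (fT G x) ((VP G k).pull x.left) :=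
  famTri_pull _ (pc G k).hom (pc G k).mono x

theorem fT_comp {X X' : Over S} {k : Kp.{u}} (x : X ⟶ (pc G k).P) (a : X' ⟶ X) :
    Tri.Same (fT G (a ≫ x)) ((fT G x).pull a.left) :=
  (fT_same_pull (a ≫ x)).trans (((Tri.pull_pull _ _ _).symm).trans ((fT_same_pull x).symm.pull a.left))

theorem isOpenImmersion_jM (k : Kp.{u}) : IsOpenImmersion (jM G k).left :=
  inferInstanceAs (IsOpenImmersion (Limits.Sigma.ι (fun k : Kp.{u} => (pc G k).M.left) k))

/-- Families with the same subgroup give the same point. -/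
theorem uu_eq {X : Over S} {k l : Kp.{u}} (x : X ⟶ (pc G k).P) (y : X ⟶ (pc G l).P) (h : Tri.Same (fT G x) (fT G y)) :
    x ≫ uu G k = y ≫ uu G l := by
  choose U j hj hz α hα using exists_local_iso (RepDescLib.isHomFamily_comp _ _ x (pc G k).hom) ((pc G k).mono.comp x)
    (RepDescLib.isHomFamily_comp _ _ y (pc G l).hom) ((pc G l).mono.comp y) h
  refine hom_ext_flat_cover j (fun z => by haveI := hj z; infer_instance) (fun z => ⟨z, hz z⟩) fun z => ?_
  obtain ⟨k⟩ := k
  obtain ⟨l⟩ := l
  obtain rfl : k = l := (idx_eq (AddEquiv.toMultiplicative.symm (α z))).symm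
  show j z ≫ x ≫ (pc G ⟨k⟩).q ≫ jM G ⟨k⟩ = j z ≫ y ≫ (pc G ⟨k⟩).q ≫ jM G ⟨k⟩
  rw [← Category.assoc, ← Category.assoc, ← Category.assoc (j z), ← Category.assoc (j z ≫ y)]
  refine (congrArg (· ≫ jM G ⟨k⟩) ((pc G ⟨k⟩).inv (α z) (j z ≫ y) (j z ≫ x) ?_)).symm
  rw [whiskerLeft_comp_assoc, whiskerLeft_comp_assoc]
  exact hα z

/-- Families giving the same point have the same subgroup. -/
theorem same_of_uu_eq {X : Over S} {k l : Kp.{u}} (x : X ⟶ (pc G k).P) (y : X ⟶ (pc G l).P)
    (h : x ≫ uu G k = y ≫ uu G l) : Tri.Same (fT G x) (fT G y) := by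
  by_cases hne : Nonempty X.left
  · haveI := hne
    obtain rfl : k = l := DescLib.idx_eq (x ≫ (pc G k).q).left (y ≫ (pc G l).q).left (by
      exact (Category.assoc _ _ _).trans ((congrArg CommaMorphism.left h).trans (Category.assoc _ _ _).symm))
    haveI := isOpenImmersion_jM (G := G) k
    haveI : Mono (jM G k) := Over.mono_of_mono_left _
    have h' : x ≫ (pc G k).q = y ≫ (pc G k).q := by
      rw [← cancel_mono (jM G k), Category.assoc, Category.assoc]
      exact h
    choose U j hj hz α hα using (pc G k).ker x y h'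
    refine Tri.same_of_openCover (fun z => (j z).left) hj (fun z => ⟨z, hz z⟩) fun z => ?_
    refine ((fT_comp x (j z)).symm).trans (Tri.Same.trans ?_ (fT_comp y (j z)))
    let e : Red.DS S (NN k.down) ≅ Red.DS S (NN k.down) :=
      { hom := dd S (α z).toMonoidHom
        inv := dd S (α z).symm.toMonoidHom
        hom_inv_id := by
          rw [dd_comp_dd, ← dd_id]; congr 1; exact MonoidHom.ext fun m => (α z).apply_symm_apply m
        inv_hom_id := by
          rw [dd_comp_dd, ← dd_id]; congr 1; exact MonoidHom.ext fun m => (α z).symm_apply_apply m }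
    let E : Red.DS S (NN k.down) ⊗ U z ≅ Red.DS S (NN k.down) ⊗ U z :=
      MonoidalCategory.whiskerRightIso e (U z)
    refine Tri.Same.symm ⟨(Over.forget S).mapIso E, ?_, ?_⟩
    · exact congrArg CommaMorphism.left (show E.hom ≫ snd _ _ = snd _ _ by simp [E])
    · refine congrArg CommaMorphism.left (show E.hom ≫ (Red.DS S (NN k.down) ◁ (j z ≫ x)) ≫ (pc G k).φ =
        (Red.DS S (NN k.down) ◁ (j z ≫ y)) ≫ (pc G k).φ from ?_)
      rw [hα z, tw]
      refine congrArg (· ≫ (Red.DS S (NN k.down) ◁ (j z ≫ x)) ≫ (pc G k).φ) ?_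
      ext1 <;> simp [E, e]
  · haveI : IsEmpty X.left := not_nonempty_iff.1 hne
    exact Tri.same_of_openCover (fun i : PEmpty.{u + 1} => (i.elim : X.left ⟶ X.left)) (fun i => i.elim)
      (fun t => isEmptyElim t) fun i => i.elim

theorem fpqc_uu : DescLib.Fpqc (Limits.Sigma.desc fun k : Kp.{u} => (uu G k).left) ∧
    LocallyOfFinitePresentation (Limits.Sigma.desc fun k : Kp.{u} => (uu G k).left) := by
  have e : (Limits.Sigma.desc fun k : Kp.{u} => (uu G k).left) = Limits.Sigma.map fun k : Kp.{u} => (pc G k).q.left :=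
    Limits.Sigma.hom_ext _ _ fun k => by
      rw [Limits.Sigma.ι_desc, Limits.Sigma.ι_map]
      rfl
  rw [e]
  haveI : ∀ k : Kp.{u}, DescLib.Fpqc (pc G k).q.left := fun k => (pc G k).fpqc
  haveI : Flat (Limits.Sigma.map fun k : Kp.{u} => (pc G k).q.left) :=
    DescLib.property_sigmaMap @Flat _ fun k => inferInstance
  haveI : Surjective (Limits.Sigma.map fun k : Kp.{u} => (pc G k).q.left) :=
    DescLib.property_sigmaMap @Surjective _ fun k => inferInstance
  haveI : QuasiCompact (Limits.Sigma.map fun k : Kp.{u} => (pc G k).q.left) :=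
    DescLib.property_sigmaMap @QuasiCompact _ fun k => (pc G k).quasiCompact
  exact ⟨inferInstance, DescLib.property_sigmaMap @LocallyOfFinitePresentation _ fun k => (pc G k).lfp_q⟩

theorem flat_uu (k : Kp.{u}) : Flat (uu G k).left := by
  haveI := (pc G k).fpqc
  haveI := isOpenImmersion_jM (G := G) k
  exact inferInstanceAs (Flat ((pc G k).q.left ≫ (jM G k).left))

theorem exists_piece_point (m : (MM G).left) : ∃ (k : Kp.{u}) (p : (pc G k).P.left), (uu G k).left p = m := by
  obtain ⟨k, z, hz⟩ := DescLib.exists_sigma_mem m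
  haveI := (pc G k).fpqc
  obtain ⟨p, hp⟩ := (pc G k).q.left.surjective z
  refine ⟨k, p, ?_⟩
  show Limits.Sigma.ι (fun k : Kp.{u} => (pc G k).M.left) k ((pc G k).q.left p) = m
  rw [hp, hz]

theorem locallyOfFinitePresentation_MM : LocallyOfFinitePresentation (MM G).hom :=
  IsZariskiLocalAtSource.sigmaDesc fun k => (pc G k).lfp

theorem exists_affine_nhd (m : (MM G).left) :
    ∃ U : (MM G).left.Opens, m ∈ U ∧ IsClosed (U : Set ↥(MM G).left) ∧ IsAffineHom (U.ι ≫ (MM G).hom) := by
  obtain ⟨k, z, rfl⟩ := DescLib.exists_sigma_mem m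
  let ι₀ := Limits.Sigma.ι (fun k : Kp.{u} => (pc G k).M.left) k
  refine ⟨ι₀.opensRange, ⟨z, rfl⟩, isClosed_opensRange_sigmaι _ k, ?_⟩
  haveI := (pc G k).affine
  have h : ι₀.opensRange.ι ≫ (MM G).hom = ι₀.isoOpensRange.inv ≫ (pc G k).M.hom := by
    rw [← Scheme.Hom.isoOpensRange_inv_comp ι₀, Category.assoc]
    exact congrArg (_ ≫ ·) (Over.w (jM G k))
  rw [h]
  infer_instance

end MultSubLib
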