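import Mathlib.Data.Fintype.EquivFin
import Mathlib.Algebra.Group.TransferInstance

/-!
An index for the isomorphism types of finite commutative groups.
-/

set_option autoImplicit false

noncomputable section

namespace MultSubLib

/-- A group structure on an initial segment of the natural numbers. -/
def Str : Type := Σ n : ℕ, AddCommGroup (Fin n)

/-- The underlying type. -/
def Car (a : Str) : Type := Fin a.1

instance (a : Str) : AddCommGroup (Car a) := a.2

instance (a : Str) : Finite (Car a) := inferInstanceAs (Finite (Fin a.1))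

/-- Isomorphism of structures. -/
def strSetoid : Setoid Str where
  r a b := Nonempty (Car a ≃+ Car b)
  iseqv := ⟨fun a => ⟨AddEquiv.refl _⟩, fun ⟨e⟩ => ⟨e.symm⟩, fun ⟨e⟩ ⟨e'⟩ => ⟨e.trans e'⟩⟩

/-- The isomorphism types. -/
def Idx : Type := Quotient strSetoid

/-- The group of an isomorphism type. -/
abbrev NN (k : Idx) : Type := Car (Quotient.out (s := strSetoid) k)

theorem exists_idx (M : Type) [AddCommGroup M] [Finite M] : ∃ k : Idx, Nonempty (NN k ≃+ M) := by
  obtain ⟨n, ⟨e⟩⟩ := Finite.exists_equiv_fin M
  let a : Str := ⟨n, e.symm.addCommGroup⟩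
  refine ⟨Quotient.mk strSetoid a, ?_⟩
  obtain ⟨h⟩ := Quotient.mk_out (s := strSetoid) a
  refine ⟨h.trans ?_⟩
  exact @Equiv.addEquiv (Fin n) M e.symm _

theorem idx_eq {k l : Idx} (e : NN k ≃+ NN l) : k = l := by
  rw [← Quotient.out_eq (s := strSetoid) k, ← Quotient.out_eq (s := strSetoid) l]
  exact Quotient.sound (s := strSetoid) ⟨e⟩

end MultSubLib
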