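import Groth.Agent.MultSubLib.Glue
import Groth.Agent.HomRepLib.Descent
import Groth.Agent.S0084
import Groth.Agent.DescHomLib.MultBC
import Groth.Agent.MultSubLib.Family

/-!
The universal subgroup is finite and of multiplicative type.
-/

set_option autoImplicit false
set_option backward.isDefEq.respectTransparency false

noncomputable section

universe u

open CategoryTheory CategoryTheory.Limits MonoidalCategory CartesianMonoidalCategory AlgebraicGeometry
open scoped MonObj

namespace MultSubLib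

variable {S : Scheme.{u}} {G : Over S} [GrpObj G] [IsAffineHom G.hom] [LocallyOfFinitePresentation G.hom]

theorem isFinite_univ {K : Over (MM G).left} [GrpObj K]
    (he : ∀ k : Kp.{u}, ∃ e : Red.bc (pc G k).P.hom (Red.DS S (NN k.down)) ≅ Red.bc (uu G k).left K, IsMonHom e.hom) :
    IsFinite K.hom := by
  haveI := (fpqc_uu (G := G)).1
  have sq := DescLib.isPullback_sigma (fun k : Kp.{u} => (uu G k).left)
    (fun k => pullback.fst K.hom (uu G k).left) (fun k => pullback.snd K.hom (uu G k).left)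
    (fun k => IsPullback.of_hasPullback K.hom (uu G k).left)
  haveI := Groth.Agent.S0084.result.{u}
  refine Groth.Agent.HomRep.prop_of_isPullback_fpqc @IsFinite sq (DescLib.property_sigmaMap @IsFinite _ fun k => ?_)
  obtain ⟨e, -⟩ := he k
  haveI := isFinite_DS S (NN k.down)
  have h1 : IsFinite (Red.bc (pc G k).P.hom (Red.DS S (NN k.down))).hom :=
    MorphismProperty.pullback_snd (P := @IsFinite) _ _ inferInstance
  show IsFinite (Red.bc (uu G k).left K).hom
  rw [← Over.w e.inv]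
  exact (MorphismProperty.cancel_left_of_respectsIso @IsFinite e.inv.left _).2 h1

theorem isMultTypeFT_univ {K : Over (MM G).left} [GrpObj K]
    (he : ∀ k : Kp.{u}, ∃ e : Red.bc (pc G k).P.hom (Red.DS S (NN k.down)) ≅ Red.bc (uu G k).left K, IsMonHom e.hom) :
    SGA3x.IsMultTypeFT K := by
  haveI := (fpqc_uu (G := G)).1
  haveI := (fpqc_uu (G := G)).2
  let Q : Kp.{u} → Scheme.{u} := fun k => (pc G k).P.left
  let f : (∐ Q) ⟶ (MM G).left := Limits.Sigma.desc fun k : Kp.{u} => (uu G k).left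
  refine ⟨∐ Q, f, inferInstance, inferInstance, exists_compact_image f f.isOpenMap f.surjective, fun x => ?_⟩
  obtain ⟨k, z, rfl⟩ := DescLib.exists_sigma_mem x
  let U := (Limits.Sigma.ι Q k).opensRange
  refine ⟨U, ⟨z, rfl⟩, NN k.down, inferInstance, inferInstance, ?_⟩
  let r : (U : Scheme.{u}) ⟶ Q k := (Limits.Sigma.ι Q k).isoOpensRange.inv
  have hr : r ≫ (uu G k).left = U.ι ≫ f := by
    rw [← Scheme.Hom.isoOpensRange_inv_comp (Limits.Sigma.ι Q k), Category.assoc]
    exact congrArg (r ≫ ·) (Limits.Sigma.ι_desc (fun k : Kp.{u} => (uu G k).left) k).symm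
  obtain ⟨e, hem⟩ := he k
  haveI := hem
  let c₁ : Red.bc r (Red.bc (uu G k).left K) ≅ Red.bc (U.ι ≫ f) K := ActBC.bcCompIso r (uu G k).left K hr
  let c₂ : Red.bc r (Red.bc (pc G k).P.hom (Red.DS S (NN k.down))) ≅ Red.bc (r ≫ (pc G k).P.hom) (Red.DS S (NN k.down)) :=
    ActBC.bcCompIso r (pc G k).P.hom (Red.DS S (NN k.down)) rfl
  haveI : IsMonHom c₁.hom := ActBC.bcCompIso_isMonHom _ _ _
  haveI : IsMonHom c₂.hom := ActBC.bcCompIso_isMonHom _ _ _
  obtain ⟨c₃, h₃⟩ := RedCharZeroLib.exists_DS_bc (r ≫ (pc G k).P.hom) (NN k.down)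
  haveI := h₃
  haveI : IsMonHom (M := Red.bc r (Red.bc (pc G k).P.hom (Red.DS S (NN k.down))))
      (N := Red.bc r (Red.bc (uu G k).left K)) ((Over.pullback r).map e.hom) :=
    @Functor.map.instIsMonHom _ _ _ _ _ _ (Over.pullback r) _ _ _ _ _ e.hom _
  let w : Red.DS (U : Scheme.{u}) (NN k.down) ≅ Red.bc (U.ι ≫ f) K :=
    c₃ ≪≫ c₂.symm ≪≫ (Over.pullback r).mapIso e ≪≫ c₁
  haveI : IsMonHom w.hom := by
    show IsMonHom (c₃.hom ≫ c₂.inv ≫ (Over.pullback r).map e.hom ≫ c₁.hom)
    infer_instance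
  haveI : IsMonHom w.symm.hom := inferInstanceAs (IsMonHom w.inv)
  exact ⟨Grp.mkIso' w.symm⟩

end MultSubLib
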