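import Groth.Agent.MultSubLib.Chars

/-!
Subschemes of a base change of a scheme, as pairs of maps, and their descent.
-/

set_option autoImplicit false
set_option backward.isDefEq.respectTransparency false

noncomputable section

universe u

open CategoryTheory CategoryTheory.Limits MonoidalCategory CartesianMonoidalCategory AlgebraicGeometry
open scoped MonObj

namespace MultSubLib

/-- A scheme with jointly monomorphic maps to `T` and `Γ₀`. -/
structure Tri (G₀ T : Scheme.{u}) where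
  /-- the scheme -/
  K : Scheme.{u}
  /-- the map to the parameters -/
  k : K ⟶ T
  /-- the map to the ambient scheme -/
  c : K ⟶ G₀
  mono : ∀ {Z : Scheme.{u}} (a b : Z ⟶ K), a ≫ k = b ≫ k → a ≫ c = b ≫ c → a = b

variable {G₀ T : Scheme.{u}}

namespace Tri

/-- The same subscheme. -/
def Same (A B : Tri G₀ T) : Prop := ∃ e : A.K ≅ B.K, e.hom ≫ B.k = A.k ∧ e.hom ≫ B.c = A.c

theorem Same.refl (A : Tri G₀ T) : Same A A := ⟨Iso.refl _, Category.id_comp _, Category.id_comp _⟩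

theorem Same.symm {A B : Tri G₀ T} (h : Same A B) : Same B A := by
  obtain ⟨e, h1, h2⟩ := h
  exact ⟨e.symm, by rw [← h1, Iso.symm_hom, Iso.inv_hom_id_assoc], by rw [← h2, Iso.symm_hom, Iso.inv_hom_id_assoc]⟩

theorem Same.trans {A B C : Tri G₀ T} (h : Same A B) (h' : Same B C) : Same A C := by
  obtain ⟨e, h1, h2⟩ := h
  obtain ⟨e', h1', h2'⟩ := h'
  exact ⟨e ≪≫ e', by rw [Iso.trans_hom, Category.assoc, h1', h1], by rw [Iso.trans_hom, Category.assoc, h2', h2]⟩

theorem same_of_maps {A B : Tri G₀ T} (a : A.K ⟶ B.K) (ha : a ≫ B.k = A.k) (ha' : a ≫ B.c = A.c) (b : B.K ⟶ A.K)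
    (hb : b ≫ A.k = B.k) (hb' : b ≫ A.c = B.c) : Same A B :=
  ⟨⟨a, b, A.mono _ _ (by rw [Category.assoc, hb, ha, Category.id_comp]) (by rw [Category.assoc, hb', ha', Category.id_comp]),
    B.mono _ _ (by rw [Category.assoc, ha, hb, Category.id_comp]) (by rw [Category.assoc, ha', hb', Category.id_comp])⟩,
    ha, ha'⟩

/-- The pull back along a map of parameters. -/
def pull {T' : Scheme.{u}} (g : T' ⟶ T) (A : Tri G₀ T) : Tri G₀ T' where
  K := pullback A.k g
  k := pullback.snd A.k g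
  c := pullback.fst A.k g ≫ A.c
  mono a b h h' := by
    rw [← Category.assoc, ← Category.assoc] at h'
    refine pullback.hom_ext (A.mono _ _ ?_ h') h
    rw [Category.assoc, Category.assoc, pullback.condition, ← Category.assoc, h, Category.assoc]

theorem same_of_isPullback {T' : Scheme.{u}} (g : T' ⟶ T) (A : Tri G₀ T) (B : Tri G₀ T') (π : B.K ⟶ A.K)
    (h : IsPullback π B.k A.k g) (hc : π ≫ A.c = B.c) : Same B (pull g A) :=
  ⟨h.isoPullback, h.isoPullback_hom_snd, by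
    show h.isoPullback.hom ≫ pullback.fst _ _ ≫ A.c = B.c
    rw [← Category.assoc, IsPullback.isoPullback_hom_fst, hc]⟩

theorem Same.pull {T' : Scheme.{u}} (g : T' ⟶ T) {A B : Tri G₀ T} (h : Same A B) :
    Same (A.pull g) (B.pull g) := by
  obtain ⟨e, h1, h2⟩ := h
  refine same_of_maps (pullback.lift (pullback.fst A.k g ≫ e.hom) (pullback.snd A.k g) (by
      rw [Category.assoc, h1, pullback.condition])) (pullback.lift_snd _ _ _) ?_
    (pullback.lift (pullback.fst B.k g ≫ e.inv) (pullback.snd B.k g) (by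
      rw [Category.assoc, ← h1, Iso.inv_hom_id_assoc, pullback.condition])) (pullback.lift_snd _ _ _) ?_
  · show _ ≫ pullback.fst B.k g ≫ B.c = pullback.fst A.k g ≫ A.c
    rw [pullback.lift_fst_assoc, Category.assoc, h2]
  · show _ ≫ pullback.fst A.k g ≫ A.c = pullback.fst B.k g ≫ B.c
    rw [pullback.lift_fst_assoc, Category.assoc, ← h2, Iso.inv_hom_id_assoc]

theorem pull_pull {T' T'' : Scheme.{u}} (g : T' ⟶ T) (g' : T'' ⟶ T') (A : Tri G₀ T) :
    Same ((A.pull g).pull g') (A.pull (g' ≫ g)) :=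
  same_of_isPullback (g' ≫ g) A _ (pullback.fst (pullback.snd A.k g) g' ≫ pullback.fst A.k g)
    ((IsPullback.of_hasPullback (pullback.snd A.k g) g').paste_horiz (IsPullback.of_hasPullback A.k g))
    (Category.assoc _ _ _)

theorem exists_map_of_cover {T' : Scheme.{u}} (g : T' ⟶ T) [DescLib.Fpqc g] {A B : Tri G₀ T}
    (h : Same (A.pull g) (B.pull g)) : ∃ a : A.K ⟶ B.K, a ≫ B.k = A.k ∧ a ≫ B.c = A.c := by
  obtain ⟨e, h1, h2⟩ := h
  let π := pullback.fst A.k g
  haveI : DescLib.Fpqc π := inferInstanceAs (DescLib.Fpqc (pullback.fst A.k g))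
  let a' : pullback A.k g ⟶ B.K := e.hom ≫ pullback.fst B.k g
  have hk : a' ≫ B.k = π ≫ A.k :=
    (Category.assoc _ _ _).trans ((congrArg (e.hom ≫ ·) pullback.condition).trans
      ((Category.assoc _ _ _).symm.trans ((congrArg (· ≫ g) h1).trans pullback.condition.symm)))
  have hc : a' ≫ B.c = π ≫ A.c := (Category.assoc _ _ _).trans h2
  have inv : ∀ {Z : Scheme.{u}} (x y : Z ⟶ pullback A.k g), x ≫ π = y ≫ π → x ≫ a' = y ≫ a' := by
    intro Z x y e'
    refine B.mono _ _ ?_ ?_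
    · exact (Category.assoc _ _ _).trans ((congrArg (x ≫ ·) hk).trans ((Category.assoc _ _ _).symm.trans
        ((congrArg (· ≫ A.k) e').trans ((Category.assoc _ _ _).trans ((congrArg (y ≫ ·) hk.symm).trans (Category.assoc _ _ _).symm)))))
    · exact (Category.assoc _ _ _).trans ((congrArg (x ≫ ·) hc).trans ((Category.assoc _ _ _).symm.trans
        ((congrArg (· ≫ A.c) e').trans ((Category.assoc _ _ _).trans ((congrArg (y ≫ ·) hc.symm).trans (Category.assoc _ _ _).symm)))))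
  have hd : π ≫ EffectiveEpi.desc π a' inv = a' := EffectiveEpi.fac _ _ _
  exact ⟨EffectiveEpi.desc π a' inv, (cancel_epi π).1 (by rw [← Category.assoc, hd, hk]),
    (cancel_epi π).1 (by rw [← Category.assoc, hd, hc])⟩

/-- Being the same descends along coverings. -/
theorem same_of_cover {T' : Scheme.{u}} (g : T' ⟶ T) [DescLib.Fpqc g] {A B : Tri G₀ T}
    (h : Same (A.pull g) (B.pull g)) : Same A B := by
  obtain ⟨a, ha, ha'⟩ := exists_map_of_cover g h
  obtain ⟨b, hb, hb'⟩ := exists_map_of_cover g h.symm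
  exact same_of_maps a ha ha' b hb hb'

theorem Same.pull_congr {T' : Scheme.{u}} {g g' : T' ⟶ T} (h : g = g') (A : Tri G₀ T) :
    Same (A.pull g) (A.pull g') := h ▸ Same.refl _

end Tri

variable {S : Scheme.{u}} {H G : Over S} [GrpObj H] [GrpObj G]

/-- The subscheme of an injective family. -/
def famTri {X : Over S} (φ : H ⊗ X ⟶ G) (hφ : AutFam.IsHomFamily H G φ) (hm : FamMono φ) : Tri G.left X.left where
  K := (H ⊗ X).left
  k := (snd H X).left
  c := φ.left
  mono {Z} a b h h' := by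
    let Z' : Over S := Over.mk (a ≫ (H ⊗ X).hom)
    let a' : Z' ⟶ H ⊗ X := Over.homMk a rfl
    let b' : Z' ⟶ H ⊗ X := Over.homMk b (by
      show b ≫ (H ⊗ X).hom = a ≫ (H ⊗ X).hom
      rw [← Over.w φ, ← Category.assoc, ← h', Category.assoc])
    have hs : a' ≫ snd H X = b' ≫ snd H X := Over.OverMorphism.ext h
    have hf : a' ≫ φ = b' ≫ φ := Over.OverMorphism.ext h'
    have ea : lift (a' ≫ fst H X) (a' ≫ snd H X) = a' := by ext1 <;> simp
    have eb : lift (b' ≫ fst H X) (a' ≫ snd H X) = b' := by ext1 <;> simp [hs]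
    have h1 : a' ≫ fst H X = b' ≫ fst H X := hm.eq_of_eq hφ (t := a' ≫ snd H X) (by rw [ea, eb, hf])
    exact congrArg CommaMorphism.left (show a' = b' from CartesianMonoidalCategory.hom_ext _ _ h1 hs)

theorem famTri_pull {X X' : Over S} (φ : H ⊗ X ⟶ G) (hφ : AutFam.IsHomFamily H G φ) (hm : FamMono φ) (a : X' ⟶ X) :
    Tri.Same (famTri ((H ◁ a) ≫ φ) (RepDescLib.isHomFamily_comp H G a hφ) (hm.comp a)) ((famTri φ hφ hm).pull a.left) :=
  Tri.same_of_isPullback a.left _ _ (H ◁ a).left (by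
    show IsPullback (H ◁ a).left (snd H X').left (snd H X).left a.left
    exact RepDescLib.isPullback_wl H a) rfl

theorem famTri_congr {X : Over S} {φ φ' : H ⊗ X ⟶ G} (h : φ = φ') (hφ : AutFam.IsHomFamily H G φ) (hm : FamMono φ)
    (hφ' : AutFam.IsHomFamily H G φ') (hm' : FamMono φ') : Tri.Same (famTri φ hφ hm) (famTri φ' hφ' hm') := by
  subst h
  exact Tri.Same.refl _

section Auto

variable {N N' : Type} [AddCommGroup N] [AddCommGroup N']

theorem exists_local_tw [AddGroup.FG N'] {X : Over S} {φ : Red.DS S N ⊗ X ⟶ G} {φ' : Red.DS S N' ⊗ X ⟶ G}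
    (hφ : AutFam.IsHomFamily (Red.DS S N) G φ) (hm : FamMono φ) (hφ' : AutFam.IsHomFamily (Red.DS S N') G φ')
    (hm' : FamMono φ') (h : Tri.Same (famTri φ hφ hm) (famTri φ' hφ' hm')) (z : X.left) :
    ∃ (U : Over S) (j : U ⟶ X), IsOpenImmersion j.left ∧ z ∈ Set.range j.left ∧
      ∃ α : Multiplicative N' →* Multiplicative N, (Red.DS S N ◁ j) ≫ φ = tw α ((Red.DS S N' ◁ j) ≫ φ') := by
  obtain ⟨e, h1, h2⟩ := h
  change e.hom ≫ (snd (Red.DS S N') X).left = (snd (Red.DS S N) X).left at h1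
  change e.hom ≫ φ'.left = φ.left at h2
  let e' : Red.DS S N ⊗ X ⟶ Red.DS S N' ⊗ X := Over.homMk e.hom (by
    rw [← Over.w φ', ← Category.assoc, h2]
    exact Over.w φ)
  have hs : e' ≫ snd (Red.DS S N') X = snd (Red.DS S N) X := Over.OverMorphism.ext h1
  have hf : e' ≫ φ' = φ := Over.OverMorphism.ext h2
  let ψ := e' ≫ fst (Red.DS S N') X
  have he : e' = lift ψ (snd (Red.DS S N) X) := by ext1 <;> simp [ψ, hs]
  have key : ∀ (Y : Over S) (h : Y ⟶ Red.DS S N) (t : Y ⟶ X), lift (lift h t ≫ ψ) t ≫ φ' = lift h t ≫ φ := by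
    intro Y h t
    rw [← hf, he, comp_lift_assoc, lift_snd]
  have hψ : AutFam.IsHomFamily (Red.DS S N) (Red.DS S N') ψ := fun Y g₁ g₂ t =>
    hm'.eq_of_eq hφ' (t := t) (by rw [key, hφ, hφ', key, key])
  obtain ⟨U, j, hj, hz, α, hα⟩ := exists_open_dd ψ hψ z
  refine ⟨U, j, hj, hz, α, ?_⟩
  have h3 : ∀ (Y : Over S) (h : Y ⟶ Red.DS S N) (t : Y ⟶ U),
      lift h t ≫ (Red.DS S N ◁ j) ≫ φ = lift h t ≫ tw α ((Red.DS S N' ◁ j) ≫ φ') := by
    intro Y h t
    have h4 := congrArg (lift h t ≫ ·) hα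
    simp only [lift_whiskerLeft_assoc, lift_fst_assoc] at h4
    rw [lift_tw, lift_whiskerLeft_assoc, lift_whiskerLeft_assoc, ← key, h4]
  have h5 := h3 _ (fst _ _) (snd _ _)
  rwa [lift_fst_snd, Category.id_comp, Category.id_comp] at h5

theorem exists_local_iso [AddGroup.FG N] [AddGroup.FG N'] {X : Over S} {φ : Red.DS S N ⊗ X ⟶ G} {φ' : Red.DS S N' ⊗ X ⟶ G}
    (hφ : AutFam.IsHomFamily (Red.DS S N) G φ) (hm : FamMono φ) (hφ' : AutFam.IsHomFamily (Red.DS S N') G φ')
    (hm' : FamMono φ') (h : Tri.Same (famTri φ hφ hm) (famTri φ' hφ' hm')) (z : X.left) :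
    ∃ (U : Over S) (j : U ⟶ X), IsOpenImmersion j.left ∧ z ∈ Set.range j.left ∧
      ∃ α : Multiplicative N' ≃* Multiplicative N, (Red.DS S N ◁ j) ≫ φ = tw α.toMonoidHom ((Red.DS S N' ◁ j) ≫ φ') := by
  obtain ⟨U₁, j₁, hj₁, hz₁, α, hα⟩ := exists_local_tw hφ hm hφ' hm' h z
  obtain ⟨U₂, j₂, hj₂, hz₂, β, hβ⟩ := exists_local_tw hφ' hm' hφ hm h.symm z
  haveI := hj₁
  haveI := hj₂
  let U : Over S := Over.mk (pullback.fst j₁.left j₂.left ≫ U₁.hom)
  let a : U ⟶ U₁ := Over.homMk (pullback.fst j₁.left j₂.left) rfl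
  let b : U ⟶ U₂ := Over.homMk (pullback.snd j₁.left j₂.left) (by
    show pullback.snd _ _ ≫ U₂.hom = pullback.fst _ _ ≫ U₁.hom
    rw [← Over.w j₁, ← Over.w j₂, pullback.condition_assoc])
  have hab : a ≫ j₁ = b ≫ j₂ := Over.OverMorphism.ext pullback.condition
  let j : U ⟶ X := a ≫ j₁
  obtain ⟨z₁, rfl⟩ := hz₁
  obtain ⟨z₂, hz₂⟩ := hz₂
  obtain ⟨w, hw, -⟩ := Scheme.Pullback.exists_preimage_pullback (f := j₁.left) (g := j₂.left) z₁ z₂ hz₂.symm
  haveI : Nonempty U.left := ⟨w⟩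
  have e1 : (Red.DS S N ◁ j) ≫ φ = tw α ((Red.DS S N' ◁ j) ≫ φ') := by
    simp only [j, whiskerLeft_comp_assoc, hα, tw_natural]
  have e2 : (Red.DS S N' ◁ j) ≫ φ' = tw β ((Red.DS S N ◁ j) ≫ φ) := by
    simp only [j, hab, whiskerLeft_comp_assoc, hβ, tw_natural]
  have inv1 : α.comp β = MonoidHom.id _ := by
    refine dd_injective (S := S) (T := U) ?_
    refine (hm.comp j).eq_of_eq (RepDescLib.isHomFamily_comp _ _ j hφ) (t := snd _ _) ?_
    show tw (α.comp β) _ = tw (MonoidHom.id _) _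
    rw [tw_id, ← tw_tw, ← e2, ← e1]
  have inv2 : β.comp α = MonoidHom.id _ := by
    refine dd_injective (S := S) (T := U) ?_
    refine (hm'.comp j).eq_of_eq (RepDescLib.isHomFamily_comp _ _ j hφ') (t := snd _ _) ?_
    show tw (β.comp α) _ = tw (MonoidHom.id _) _
    rw [tw_id, ← tw_tw, ← e1, ← e2]
  refine ⟨U, j, inferInstanceAs (IsOpenImmersion (pullback.fst j₁.left j₂.left ≫ j₁.left)), ⟨w, ?_⟩,
    { toFun := α, invFun := β, left_inv := fun x => DFunLike.congr_fun inv2 x,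
      right_inv := fun x => DFunLike.congr_fun inv1 x, map_mul' := map_mul α }, e1⟩
  show j₁.left (pullback.fst j₁.left j₂.left w) = j₁.left z₁
  rw [hw]

end Auto

end MultSubLib
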