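import Groth.Agent.MultSubLib.Subgroup
import Groth.Agent.MultHomLib.FinGlobal
import Groth.Agent.RepDescLib.DualConst

/-!
The universal property of the scheme of finite subgroups of multiplicative type.
-/

set_option autoImplicit false
set_option backward.isDefEq.respectTransparency false

noncomputable section

universe u

open CategoryTheory CategoryTheory.Limits MonoidalCategory CartesianMonoidalCategory AlgebraicGeometry
open scoped MonObj

namespace MultSubLib

open Groth.Agent.RedRank (homOf exists_homOf_eq isHomFamily_of_isMonHom)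

variable {S : Scheme.{u}} (G : Over S) [GrpObj G] [IsAffineHom G.hom] [LocallyOfFinitePresentation G.hom]

/-- A finite group with a split piece has finitely many characters. -/
theorem finite_of_split {T : Scheme.{u}} {H : Over T} [GrpObj H] [IsFinite H.hom] {U : Scheme.{u}} (s : U) {g : U ⟶ T}
    {M : Type} [AddCommGroup M] (e : Grp.mk (Red.bc g H) ≅ Grp.mk (Red.DS U M)) : Finite M := by
  obtain ⟨w, -⟩ := Groth.Agent.MultLift.exists_split_iso e (U.fromSpecResidueField s) (U.fromSpecResidueField s ≫ g) rfl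
  exact Groth.Agent.MultHom.finite_of_isFinite _ w

/-- A diagonalisable finite subgroup is given by a point of a piece. -/
theorem exists_point {T : Scheme.{u}} (f : T ⟶ S) {K' : Over T} [GrpObj K'] [IsFinite K'.hom]
    (j' : K' ⟶ Red.bc f G) [IsMonHom j'] [Mono j'] (V' : Tri G.left T)
    (hV' : ∃ e : K'.left ≅ V'.K, e.hom ≫ V'.k = K'.hom ∧ e.hom ≫ V'.c = j'.left ≫ pullback.fst G.hom f)
    {U : Scheme.{u}} (g : U ⟶ T) {M : Type} [AddCommGroup M]
    (e : Grp.mk (Red.bc g K') ≅ Grp.mk (Red.DS U M)) (s : U) :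
    ∃ (k : Kp.{u}) (x : Over.mk (g ≫ f) ⟶ (pc G k).P), Tri.Same (fT G x) (V'.pull g) := by
  haveI := finite_of_split s e
  obtain ⟨k, ⟨σ⟩⟩ := exists_idx M
  let X : Over S := Over.mk (g ≫ f)
  let N := NN k
  let e₁ : Red.bc g K' ≅ Red.DS U M := (Grp.forget _).mapIso e
  haveI : IsMonHom e₁.inv := e.inv.hom.isMonHom_hom
  obtain ⟨e₀, he₀⟩ := RedCharZeroLib.exists_DS_bc (g ≫ f) N
  haveI := he₀
  let σ' : Red.DS U N ≅ Red.DS U M :=
    { hom := dd U (AddEquiv.toMultiplicative σ.symm).toMonoidHom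
      inv := dd U (AddEquiv.toMultiplicative σ).toMonoidHom
      hom_inv_id := by
        rw [dd_comp_dd, ← dd_id]; congr 1; exact MonoidHom.ext fun m => σ.symm_apply_apply m
      inv_hom_id := by
        rw [dd_comp_dd, ← dd_id]; congr 1; exact MonoidHom.ext fun m => σ.apply_symm_apply m }
  let θ : Red.bc (g ≫ f) (Red.DS S N) ≅ Red.bc g K' := e₀.symm ≪≫ σ' ≪≫ e₁.symm
  let c := ActBC.bcCompIso g f G (rfl : g ≫ f = g ≫ f)
  haveI : IsMonHom c.hom := ActBC.bcCompIso_isMonHom _ _ _
  haveI : IsMonHom (M := Red.bc g K') (N := Red.bc g (Red.bc f G)) ((Over.pullback g).map j') :=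
    Groth.Agent.DiagRep.isMonHom_bc_map g j'
  haveI : Mono ((Over.pullback g).map j') := by
    haveI : (Over.pullback g).IsRightAdjoint := (Over.mapPullbackAdj g).isRightAdjoint
    infer_instance
  haveI hθ : IsMonHom θ.hom := by
    show IsMonHom (e₀.inv ≫ dd U (AddEquiv.toMultiplicative σ.symm).toMonoidHom ≫ e₁.inv)
    infer_instance
  let ψ : Red.bc X.hom (Red.DS S N) ⟶ Red.bc X.hom G := θ.hom ≫ (Over.pullback g).map j' ≫ c.hom
  haveI : IsMonHom ψ := inferInstanceAs (IsMonHom (θ.hom ≫ (Over.pullback g).map j' ≫ c.hom))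
  haveI : Mono ψ := inferInstanceAs (Mono (θ.hom ≫ (Over.pullback g).map j' ≫ c.hom))
  obtain ⟨φ, hφ⟩ := exists_homOf_eq (T := X) ψ
  haveI : IsMonHom (homOf φ) := hφ ▸ inferInstanceAs (IsMonHom ψ)
  haveI : Mono (homOf φ) := hφ ▸ inferInstanceAs (Mono ψ)
  have hhom := isHomFamily_of_isMonHom φ
  have hmono : FamMono φ := fun Y t h e' => by
    have hi := (Groth.Agent.RedRank.ktriv_homOf_iff φ (𝟙 X.left)).1
      ((Groth.Agent.RedRank.mono_iff_ktriv_id _).1 inferInstance)
    have w : (t.left ≫ 𝟙 X.left) ≫ X.hom = Y.hom := by rw [Category.comp_id, Over.w t]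
    exact hi Y t.left w h (by
      rw [show (Over.homMk (t.left ≫ 𝟙 X.left) w : Y ⟶ X) = t from Over.OverMorphism.ext (Category.comp_id _)]
      exact e')
  obtain ⟨x, hx, -⟩ := (pc G ⟨k⟩).univ X φ hhom hmono
  refine ⟨⟨k⟩, x, (famTri_congr hx _ _ hhom hmono).trans ?_⟩
  obtain ⟨e', he1, he2⟩ := hV'
  have hφl : φ.left = θ.hom.left ≫ pullback.fst K'.hom g ≫ j'.left ≫ pullback.fst G.hom f := by
    rw [← homOf_left_fst φ, hφ]
    show (θ.hom.left ≫ ((Over.pullback g).map j').left ≫ c.hom.left) ≫ pullback.fst G.hom (g ≫ f) = _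
    rw [Category.assoc, Category.assoc, ActBC.bcCompIso_hom_left_fst, ActBC.pullback_map_left_fst_assoc]
  let A : Tri G.left U :=
    { K := (Red.bc g K').left
      k := pullback.snd K'.hom g
      c := pullback.fst K'.hom g ≫ e'.hom ≫ V'.c
      mono := fun a b h h' => pullback.hom_ext (by
        rw [← cancel_mono e'.hom]
        refine V'.mono _ _ ?_ ?_
        · rw [Category.assoc, Category.assoc, Category.assoc, Category.assoc, he1, pullback.condition,
            ← Category.assoc, h, Category.assoc]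
        · simpa only [Category.assoc] using h') h }
  refine Tri.Same.trans (B := A) ⟨(Over.forget U).mapIso θ, Over.w θ.hom, ?_⟩ ?_
  · show θ.hom.left ≫ pullback.fst K'.hom g ≫ e'.hom ≫ V'.c = φ.left
    rw [he2, hφl]
  · refine Tri.same_of_isPullback g V' A (pullback.fst K'.hom g ≫ e'.hom) ?_ (Category.assoc _ _ _)
    exact (IsPullback.of_hasPullback K'.hom g).of_iso (Iso.refl _) e' (Iso.refl _) (Iso.refl _) (by simp) (by simp [A])
      (by simp [he1]) (by simp)

variable {G}

/-- Two points of the sum with the same pulled back subgroup are equal. -/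
theorem eq_of_same {V : Tri G.left (MM G).left} (hV : ∀ k : Kp.{u}, Tri.Same (VP G k) (V.pull (uu G k).left))
    {X : Over S} (v v' : X ⟶ MM G) (h : Tri.Same (V.pull v.left) (V.pull v'.left)) : v = v' := by
  let R₁ : Kp.{u} → Over S := fun k => Over.mk (pullback.fst v.left (uu G k).left ≫ X.hom)
  let r₁ : ∀ k, R₁ k ⟶ X := fun k => Over.homMk (pullback.fst v.left (uu G k).left) rfl
  let x : ∀ k, R₁ k ⟶ (pc G k).P := fun k => Over.homMk (pullback.snd v.left (uu G k).left) (by
    show pullback.snd _ _ ≫ (pc G k).P.hom = pullback.fst _ _ ≫ X.hom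
    rw [← uu_comp, ← pullback.condition_assoc, Over.w v])
  have hx : ∀ k, x k ≫ uu G k = r₁ k ≫ v := fun k => Over.OverMorphism.ext pullback.condition.symm
  let R : Kp.{u} × Kp.{u} → Over S := fun p => Over.mk (pullback.fst (r₁ p.1 ≫ v').left (uu G p.2).left ≫ (R₁ p.1).hom)
  let r : ∀ p, R p ⟶ R₁ p.1 := fun p => Over.homMk (pullback.fst (r₁ p.1 ≫ v').left (uu G p.2).left) rfl
  let y : ∀ p, R p ⟶ (pc G p.2).P := fun p => Over.homMk (pullback.snd (r₁ p.1 ≫ v').left (uu G p.2).left) (by
    show pullback.snd _ _ ≫ (pc G p.2).P.hom = pullback.fst _ _ ≫ (R₁ p.1).hom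
    rw [← uu_comp, ← pullback.condition_assoc, Over.w (r₁ p.1 ≫ v')])
  have hy : ∀ p, y p ≫ uu G p.2 = r p ≫ r₁ p.1 ≫ v' := fun p => Over.OverMorphism.ext pullback.condition.symm
  refine hom_ext_flat_cover (fun p => r p ≫ r₁ p.1) (fun p => ?_) (fun z => ?_) fun p => ?_
  · haveI := flat_uu (G := G) p.1
    haveI := flat_uu (G := G) p.2
    exact inferInstanceAs (Flat (pullback.fst (r₁ p.1 ≫ v').left (uu G p.2).left ≫ pullback.fst v.left (uu G p.1).left))
  · obtain ⟨k, q, hq⟩ := exists_piece_point (G := G) (v.left z)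
    obtain ⟨w, hw, -⟩ := Scheme.Pullback.exists_preimage_pullback (f := v.left) (g := (uu G k).left) z q hq.symm
    obtain ⟨l, q', hq'⟩ := exists_piece_point (G := G) ((r₁ k ≫ v').left w)
    obtain ⟨w', hw', -⟩ := Scheme.Pullback.exists_preimage_pullback (f := (r₁ k ≫ v').left) (g := (uu G l).left) w q'
      hq'.symm
    refine ⟨(k, l), w', ?_⟩
    show pullback.fst v.left (uu G k).left (pullback.fst (r₁ k ≫ v').left (uu G l).left w') = z
    rw [hw', hw]
  · rw [Category.assoc, Category.assoc, ← hx, ← Category.assoc, ← hy]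
    refine uu_eq (r p ≫ x p.1) (y p) ?_
    have key : ∀ {k : Kp.{u}} {Y : Over S} (a : Y ⟶ (pc G k).P) (b : Y ⟶ MM G), a ≫ uu G k = b →
        Tri.Same (fT G a) (V.pull b.left) := fun a b hab =>
      (fT_same_pull a).trans (((hV _).pull a.left).trans
        ((Tri.pull_pull _ _ V).trans (Tri.Same.pull_congr (congrArg CommaMorphism.left hab) V)))
    refine (key _ (r p ≫ r₁ p.1 ≫ v) (by rw [Category.assoc, hx])).trans (Tri.Same.trans ?_ (key _ _ (hy p)).symm)
    have h' := h.pull (r p ≫ r₁ p.1).left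
    refine ((Tri.Same.pull_congr ?_ V).trans (Tri.pull_pull _ _ V).symm).trans
      (h'.trans ((Tri.pull_pull _ _ V).trans (Tri.Same.pull_congr ?_ V)))
    · exact (Category.assoc _ _ _).symm
    · exact Category.assoc _ _ _

/-- A finite subgroup of multiplicative type is the pull back of the universal one. -/
theorem exists_classifying {V : Tri G.left (MM G).left} (hV : ∀ k : Kp.{u}, Tri.Same (VP G k) (V.pull (uu G k).left))
    {T : Scheme.{u}} (f : T ⟶ S) {K' : Over T} [GrpObj K'] [IsFinite K'.hom] (j' : K' ⟶ Red.bc f G) [IsMonHom j']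
    [Mono j'] (hK' : SGA3x.IsMultTypeFT K') (V' : Tri G.left T)
    (hV' : ∃ e : K'.left ≅ V'.K, e.hom ≫ V'.k = K'.hom ∧ e.hom ≫ V'.c = j'.left ≫ pullback.fst G.hom f) :
    ∃ v : Over.mk f ⟶ MM G, Tri.Same V' (V.pull v.left) := by
  obtain ⟨S', f', hflat, hsurj, hcov, hloc⟩ := hK'
  haveI := hflat
  haveI := hsurj
  choose U hU M inst hM e using hloc
  let X : Over S := Over.mk f
  let g : ∀ s, (U s : Scheme.{u}) ⟶ T := fun s => (U s).ι ≫ f'
  haveI : DescLib.Fpqc (Limits.Sigma.desc g) := RepDescLib.fpqc_pieces f' hcov U fun s => ⟨s, hU s⟩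
  choose k x hx using fun s => exists_point G f j' V' hV' (g s) (e s).some ⟨s, hU s⟩
  let r : ∀ s, Over.mk (g s ≫ f) ⟶ X := fun s => Over.homMk (g s) rfl
  haveI : DescLib.Fpqc (Limits.Sigma.desc fun s => (r s).left) := ‹DescLib.Fpqc (Limits.Sigma.desc g)›
  obtain ⟨v, hv⟩ := hom_descend_family r (fun s => x s ≫ uu G (k s)) fun s s' W a b hab => by
    rw [← Category.assoc, ← Category.assoc]
    refine uu_eq (a ≫ x s) (b ≫ x s') ?_
    refine (fT_comp (x s) a).trans (((hx s).pull a.left).trans ?_)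
    refine Tri.Same.trans ?_ ((fT_comp (x s') b).trans ((hx s').pull b.left)).symm
    exact (Tri.pull_pull _ _ V').trans ((Tri.Same.pull_congr (congrArg CommaMorphism.left hab) V').trans
      (Tri.pull_pull _ _ V').symm)
  refine ⟨v, Tri.same_of_family g fun s => ?_⟩
  refine ((hx s).symm.trans ((fT_same_pull (x s)).trans ((hV (k s)).pull (x s).left))).trans ?_
  refine (Tri.pull_pull _ _ V).trans (Tri.Same.trans ?_ (Tri.pull_pull v.left (g s) V).symm)
  exact Tri.Same.pull_congr (congrArg CommaMorphism.left (hv s)).symm V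

end MultSubLib
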